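import Groth.Agent.BlowProjLib.Main
import Groth.Agent.BlowProjLib.Present
import Groth.Agent.BlowUpLib.Chart
import Groth.Agent.KRLib.Seq
import Groth.Agent.GorLib.RegSeq
import Mathlib.RingTheory.Regular.Flat

/-!
# The chart at infinity of the deformation to the normal cone

If `f, t` is a weakly regular sequence, the fractions `f / t` form a weakly regular sequence of the
`t`-chart of the blowing up in the ideal `(t, f)`.
-/

set_option autoImplicit false
set_option backward.isDefEq.respectTransparency false
set_option backward.isDefEq.respectTransparency.types false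
set_option linter.style.haveILetI false

universe u

open KoszDetLib MvPolynomial RingTheory.Sequence

namespace DefoRegLib

theorem congr_ringEquiv {R S : Type u} [CommRing R] [CommRing S] (e : R ≃+* S) (rs : List R) :
    IsWeaklyRegular R rs ↔ IsWeaklyRegular S (rs.map e) :=
  e.toAddEquiv.isWeaklyRegular_congr <| List.forall₂_map_right_iff.mpr <|
    List.forall₂_same.mpr fun r _ x => map_mul e r x

/-- Presentation of the `t`-chart. -/
theorem presentation {c : ℕ} {R : Type u} [CommRing R] (t : R) (f : Fin c → R)
    (h : IsWeaklyRegular R (List.ofFn f ++ [t])) (J : Ideal R)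
    (hJ : J = Ideal.span (Set.range (Fin.cons t f : Fin (c + 1) → R)))
    (v : Fin c → BlowUp.affineAlgebra R J t)
    (hv : ∀ m, v m * algebraMap R _ t = algebraMap R _ (f m)) :
    Function.Surjective (aeval (R := R) v) ∧
      RingHom.ker (aeval (R := R) v).toRingHom =
        Ideal.span (Set.range fun m => C t * X m - C (f m)) := by
  have hK : IsExactK (Fin.cons t f : Fin (c + 1) → R) := by
    have h1 := KRLib.isExactK_of_isWeaklyRegular _ h
    have h2 : IsExactK (Fin.snoc f t : Fin (c + 1) → R) := by
      have hlen : (List.ofFn f ++ [t]).length = c + 1 := by simp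
      refine KRLib.isExactK_cast h1 hlen fun i => ?_
      obtain ⟨j, rfl⟩ : ∃ j, Fin.cast hlen.symm j = i := ⟨Fin.cast hlen i, by simp⟩
      induction j using Fin.lastCases with
      | last => simp [List.getElem_append]
      | cast j => simp [List.getElem_append]
    refine KRLib.isExactK_cast (KRLib.isExactK_comp_equiv h2 (finRotate (c + 1)).symm) rfl fun i => ?_
    simp only [Fin.cast_refl, id_eq, Function.comp_apply]
    induction i using Fin.cases with
    | zero =>
      have e : (finRotate (c + 1)).symm 0 = Fin.last c := by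
        rw [Equiv.symm_apply_eq, finRotate_last]
      rw [e, Fin.cons_zero, Fin.snoc_last]
    | succ j =>
      have e : (finRotate (c + 1)).symm j.succ = j.castSucc := by
        rw [Equiv.symm_apply_eq]
        simp [Fin.coeSucc_eq_succ]
      rw [e, Fin.cons_succ, Fin.snoc_castSucc]
  obtain ⟨h1, h2⟩ := BlowProjLib.presentation_first (Fin.cons t f : Fin (c + 1) → R) hK J hJ t
    rfl v (fun m => by rw [Fin.cons_succ]; exact hv m)
  refine ⟨h1, h2.trans ?_⟩
  congr 2

theorem weaklyRegular_chart : ∀ {c : ℕ} {R : Type u} [CommRing R] (t : R) (f : Fin c → R)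
    (_ : IsWeaklyRegular R (List.ofFn f ++ [t])) (J : Ideal R)
    (_ : J = Ideal.span (Set.range (Fin.cons t f : Fin (c + 1) → R)))
    (v : Fin c → BlowUp.affineAlgebra R J t)
    (_ : ∀ m, v m * algebraMap R _ t = algebraMap R _ (f m)),
    IsWeaklyRegular (BlowUp.affineAlgebra R J t) (List.ofFn v)
  | 0, R, _, t, f, _, J, _, v, _ => by
    rw [List.ofFn_zero]
    exact IsWeaklyRegular.nil _ _
  | c + 1, R, _, t, f, h, J, hJ, v, hv => by
    classical
    obtain ⟨hsurj, hker⟩ := presentation t f h J hJ v hv
    let C' := BlowUp.affineAlgebra R J t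
    rw [List.ofFn_succ, List.cons_append] at h
    rw [GorLib.isWeaklyRegular_cons_ring, List.map_append, List.map_ofFn] at h
    obtain ⟨hf0, h'⟩ := h
    rw [List.ofFn_succ, GorLib.isWeaklyRegular_cons_ring]
    refine ⟨?_, ?_⟩
    · -- `f 0 / t` is a nonzerodivisor
      refine (isSMulRegular_iff_right_eq_zero_of_smul (M := ↥(BlowUp.affineAlgebra R J t))).2 fun x hx => ?_
      rw [smul_eq_mul] at hx
      have h1 : algebraMap R C' (f 0) * x = 0 := by
        rw [← hv 0, mul_right_comm, hx, zero_mul]
      have hnz : algebraMap R (Localization.Away t) (f 0) ∈ nonZeroDivisors (Localization.Away t) := by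
        haveI : Module.Flat R (Localization.Away t) := IsLocalization.flat _ (Submonoid.powers t)
        rw [mem_nonZeroDivisors_iff_right]
        intro y hy
        have := (isWeaklyRegular_singleton_iff R (f 0)).2 hf0
        have h3 : IsWeaklyRegular (Localization.Away t) [algebraMap R (Localization.Away t) (f 0)] := by
          simpa using IsWeaklyRegular.of_flat (S := Localization.Away t) this
        rw [isWeaklyRegular_singleton_iff] at h3
        exact isSMulRegular_iff_right_eq_zero_of_smul.1 h3 y (by rw [smul_eq_mul, mul_comm]; exact hy)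
      refine Subtype.ext ?_
      refine mem_nonZeroDivisors_iff_right.mp hnz _ ?_
      rw [mul_comm]
      exact congrArg Subtype.val h1
    -- the quotient is the chart over `R / (f 0)`
    let σ := Ideal.Quotient.mk (Ideal.span {f 0})
    let R' := R ⧸ Ideal.span {f 0}
    let t' : R' := σ t
    let f' : Fin c → R' := fun m => σ (f m.succ)
    let J' : Ideal R' := Ideal.span (Set.range (Fin.cons t' f' : Fin (c + 1) → R'))
    let C'' := BlowUp.affineAlgebra R' J' t'
    have hmem : ∀ i, (Fin.cons t' f' : Fin (c + 1) → R') i ∈ J' := fun i => Ideal.subset_span ⟨i, rfl⟩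
    let v' : Fin c → C'' := fun m => ⟨IsLocalization.mk' (Localization.Away t') (f' m)
      ⟨t', Submonoid.mem_powers t'⟩, Algebra.subset_adjoin ⟨f' m, by simpa using hmem m.succ, rfl⟩⟩
    have hv' : ∀ m, v' m * algebraMap R' C'' t' = algebraMap R' C'' (f' m) := fun m =>
      Subtype.ext (IsLocalization.mk'_spec _ _ ⟨t', Submonoid.mem_powers t'⟩)
    have h'' : IsWeaklyRegular R' (List.ofFn f' ++ [t']) := h'
    have ih := weaklyRegular_chart t' f' h'' J' rfl v' hv'
    obtain ⟨hsurj', hker'⟩ := presentation t' f' h'' J' rfl v' hv'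
    let ρ := algebraMap R C'
    let ρ' := algebraMap R' C''
    have hnz' : ρ' t' ∈ nonZeroDivisors C'' := BlowProjLib.nzd_affineAlgebra J' t'
    have hσf : σ (f 0) = 0 := Ideal.Quotient.eq_zero_iff_mem.2 (Ideal.mem_span_singleton_self _)
    -- the map to the chart over the quotient
    let V : Fin (c + 1) → C'' := Fin.cons 0 v'
    let θ : MvPolynomial (Fin (c + 1)) R →+* C'' := eval₂Hom (ρ'.comp σ) V
    have hθ : ∀ p, aeval (R := R) v p = 0 → θ p = 0 := by
      intro p hp
      have hp' : p ∈ RingHom.ker (aeval (R := R) v).toRingHom := hp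
      rw [hker] at hp'
      refine RingHom.mem_ker.1 ((Ideal.span_le (I := RingHom.ker θ)).2 ?_ hp')
      rintro _ ⟨m, rfl⟩
      show θ _ = 0
      simp only [θ, map_sub, map_mul, eval₂Hom_C, eval₂Hom_X', RingHom.comp_apply]
      induction m using Fin.cases with
      | zero =>
        show ρ' (σ t) * V 0 - ρ' (σ (f 0)) = 0
        rw [hσf, map_zero, show V 0 = 0 from Fin.cons_zero _ _, mul_zero, sub_zero]
      | succ m =>
        simp only [V, Fin.cons_succ]
        rw [mul_comm]
        exact sub_eq_zero.2 (hv' m)
    have hev : ∀ p, aeval (R := R) v p = eval₂Hom ρ v p := fun p => rfl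
    let ψ : C' →+* C'' := (eval₂Hom ρ v).liftOfSurjective hsurj ⟨θ, fun p hp => hθ p hp⟩
    have hψ : ∀ p, ψ (eval₂Hom ρ v p) = θ p := fun p =>
      RingHom.liftOfRightInverse_comp_apply _ _ _ _ p
    have hψρ : ∀ r, ψ (ρ r) = ρ' (σ r) := fun r => by
      have := hψ (C r)
      simpa [θ] using this
    have hψv : ∀ m, ψ (v m) = V m := fun m => by
      have := hψ (X m)
      simpa [θ] using this
    -- its kernel is generated by `v 0`
    let q := Ideal.Quotient.mk (Ideal.span {v 0})
    have hq0 : q (v 0) = 0 := Ideal.Quotient.eq_zero_iff_mem.2 (Ideal.mem_span_singleton_self _)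
    have hqf : q (ρ (f 0)) = 0 := by
      show q (algebraMap R C' (f 0)) = 0
      rw [← hv 0, map_mul, hq0, zero_mul]
    let ρq : R' →+* C' ⧸ Ideal.span {v 0} := Ideal.Quotient.lift _ (q.comp ρ) fun a ha => by
      obtain ⟨b, rfl⟩ := Ideal.mem_span_singleton'.1 ha
      rw [RingHom.comp_apply, map_mul, map_mul, hqf, mul_zero]
    let θ' : MvPolynomial (Fin c) R' →+* C' ⧸ Ideal.span {v 0} := eval₂Hom ρq fun m => q (v m.succ)
    have hθC : ∀ x : R', θ' (C x) = ρq x := fun x => eval₂Hom_C _ _ _
    have hθX : ∀ m, θ' (X m) = q (v m.succ) := fun m => eval₂Hom_X' _ _ _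
    have hρq : ∀ r, ρq (σ r) = q (ρ r) := fun r => rfl
    have hθ' : RingHom.ker (aeval (R := R') v').toRingHom ≤ RingHom.ker θ' := by
      rw [hker', Ideal.span_le]
      rintro _ ⟨m, rfl⟩
      show θ' _ = 0
      rw [map_sub, map_mul, hθC, hθX, hθC]
      show q (ρ t) * q (v m.succ) - q (ρ (f m.succ)) = 0
      rw [sub_eq_zero, ← map_mul, mul_comm]
      exact congrArg q (hv m.succ)
    let χ : C'' →+* C' ⧸ Ideal.span {v 0} :=
      (aeval (R := R') v').toRingHom.liftOfSurjective hsurj' ⟨θ', hθ'⟩
    have hχ : ∀ p, χ (aeval (R := R') v' p) = θ' p := fun p =>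
      RingHom.liftOfRightInverse_comp_apply _ _ _ _ p
    let ψq : C' ⧸ Ideal.span {v 0} →+* C'' := Ideal.Quotient.lift _ ψ fun a ha => by
      obtain ⟨b, rfl⟩ := Ideal.mem_span_singleton'.1 ha
      rw [map_mul, hψv 0]
      simp [V]
    have h1 : χ.comp ψq = RingHom.id _ := by
      refine Ideal.Quotient.ringHom_ext (RingHom.ext fun x => ?_)
      obtain ⟨p, rfl⟩ := hsurj x
      change χ (ψ (eval₂Hom ρ v p)) = q (eval₂Hom ρ v p)
      have : χ.comp θ = q.comp (eval₂Hom ρ v) := by
        refine MvPolynomial.ringHom_ext (fun r => ?_) fun m => ?_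
        · simp only [RingHom.comp_apply, θ, eval₂Hom_C]
          have := hχ (C (σ r))
          rw [aeval_C] at this
          refine this.trans ((hθC _).trans ?_)
          exact (congrArg q (eval₂Hom_C ρ v r)).symm
        · simp only [RingHom.comp_apply, θ, eval₂Hom_X']
          induction m using Fin.cases with
          | zero =>
            rw [show V 0 = 0 from Fin.cons_zero _ _, map_zero]
            exact ((congrArg q (eval₂Hom_X' ρ v 0)).trans hq0).symm
          | succ m =>
            simp only [V, Fin.cons_succ]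
            have := hχ (X m)
            rw [aeval_X] at this
            exact this.trans ((hθX m).trans (congrArg q (eval₂Hom_X' ρ v m.succ)).symm)
      rw [hψ]
      exact RingHom.congr_fun this p
    have h2 : ψq.comp χ = RingHom.id _ := by
      refine RingHom.ext fun y => ?_
      obtain ⟨p, rfl⟩ := hsurj' y
      rw [RingHom.comp_apply, hχ, RingHom.id_apply]
      have : ψq.comp θ' = (aeval (R := R') v').toRingHom := by
        refine MvPolynomial.ringHom_ext (fun r => ?_) fun m => ?_
        · obtain ⟨r, rfl⟩ := Ideal.Quotient.mk_surjective r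
          show ψq (θ' (C (σ r))) = aeval (R := R') v' (C (σ r))
          rw [hθC, hρq, aeval_C]
          exact hψρ r
        · show ψq (θ' (X m)) = aeval (R := R') v' (X m)
          rw [hθX, aeval_X]
          exact hψv m.succ
      exact RingHom.congr_fun this p
    let e : (C' ⧸ Ideal.span {v 0}) ≃+* C'' := RingEquiv.ofRingHom ψq χ h2 h1
    rw [congr_ringEquiv e, List.map_ofFn, List.map_ofFn]
    have : (⇑e ∘ ⇑q ∘ fun i : Fin c => v i.succ) = v' := funext fun m => hψv m.succ
    rw [this]
    exact ih

end DefoRegLib
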