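import Groth.Agent.DefoRegLib.Strict

/-!
# The map of deformation spaces of a composite of regular immersions
-/

set_option autoImplicit false
set_option maxHeartbeats 1000000
set_option backward.isDefEq.respectTransparency false
set_option backward.isDefEq.respectTransparency.types false
set_option linter.style.haveILetI false

universe u

open AlgebraicGeometry CategoryTheory CategoryTheory.Limits TopologicalSpace RingTheory.Sequence
open ChowLib

noncomputable section

namespace DefoRegLib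

theorem weaklyRegular_lift {A B : Type u} [CommRing A] [CommRing B] (φ : A →+* B) (hφ : Function.Surjective φ)
    {c n : ℕ} (f : Fin c → A) (G : Fin n → A) (hker : RingHom.ker φ = Ideal.span (Set.range f))
    (hf : IsWeaklyRegular A (List.ofFn f)) (hG : IsWeaklyRegular B (List.ofFn fun l => φ (G l))) :
    IsWeaklyRegular A (List.ofFn (Fin.append f G)) := by
  rw [List.ofFn_fin_append, isWeaklyRegular_append_iff]
  refine ⟨hf, ?_⟩
  let I : Ideal A := Ideal.ofList (List.ofFn f)
  let e : (A ⧸ (I • ⊤ : Submodule A A)) ≃ₗ[A] A ⧸ I :=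
    Submodule.quotEquivOfEq _ _ (by rw [smul_eq_mul, Ideal.mul_top])
  rw [e.isWeaklyRegular_congr, ← isWeaklyRegular_map_algebraMap_iff (A ⧸ I), List.map_ofFn]
  have hIk : I = RingHom.ker φ := by rw [hker]; exact ofList_ofFn f
  let q : (A ⧸ I) ≃+* B := (Ideal.quotEquivOfEq hIk).trans (RingHom.quotientKerEquivOfSurjective hφ)
  rw [congr_ringEquiv q, List.map_ofFn]
  exact hG

theorem perm_pivot {α : Type u} {n : ℕ} (G : Fin (n + 1) → α) (l : Fin (n + 1)) :
    (G l :: List.ofFn (G ∘ l.succAbove)).Perm (List.ofFn G) := by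
  let σ : Equiv.Perm (Fin (n + 1)) := (finSuccEquiv n).trans (finSuccEquiv' l).symm
  have h := Equiv.Perm.ofFn_comp_perm σ G
  have e : List.ofFn (G ∘ σ) = G l :: List.ofFn (G ∘ l.succAbove) := by
    rw [List.ofFn_succ]
    simp [σ, Function.comp_def]
  rw [← e]
  exact h

theorem sect_toP1 {X Y : Scheme.{u}} (i : Y ⟶ X) (a : Fin (1 + 1)) :
    P1.sect Y a ≫ P1.toP1 i = i ≫ P1.sect X a := by
  apply po_ext
  · rw [Category.assoc, toP1_toPZ, Category.assoc, CycP1Lib.sect_toPZ, CycP1Lib.sect_toPZ, ← Category.assoc,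
      specULiftZIsTerminal.hom_ext (i ≫ specULiftZIsTerminal.from X) (specULiftZIsTerminal.from Y)]
  · rw [Category.assoc, toP1_toBase, ← Category.assoc, CycP1Lib.sect_toBase, Category.id_comp, Category.assoc,
      CycP1Lib.sect_toBase, Category.comp_id]

theorem ker_comap_of_mono {Z P P' : Scheme.{u}} (g : P' ⟶ P) [IsClosedImmersion g] (s : Z ⟶ P')
    [IsClosedImmersion s] : (s ≫ g).ker.comap g = s.ker := by
  have h : IsPullback s (𝟙 Z) g (s ≫ g) := by
    refine ⟨⟨by simp⟩, ⟨PullbackCone.IsLimit.mk _ (fun c => c.snd) (fun c => ?_) (fun c => ?_)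
      (fun c m _ h2 => by simpa using h2)⟩⟩
    · rw [← cancel_mono g, Category.assoc]
      exact c.condition.symm
    · exact Category.comp_id _
  rw [← Scheme.IdealSheafData.ker_fst_of_isClosedImmersion]
  conv_rhs => rw [← h.isoPullback_hom_fst, Scheme.Hom.ker_comp_of_isIso]

theorem support_ker_sect {X Z : Scheme.{u}} (k : Z ⟶ X) [IsClosedImmersion k]
    (p : ↥(CohB1.ProjSpaceOver 1 X)) (hp : p ∈ (k ≫ P1.sect X 1).ker.support) :
    ∃ ζ : Z, p = P1.sect X 1 (k ζ) := by
  change p ∈ ((k ≫ P1.sect X 1).ker.support : Set _) at hp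
  rw [Scheme.Hom.support_ker] at hp
  change p ∈ closure (Set.range (k ≫ P1.sect X 1)) at hp
  rw [(k ≫ P1.sect X 1).isClosedEmbedding.isClosed_range.closure_eq] at hp
  obtain ⟨ζ, rfl⟩ := hp
  exact ⟨ζ, rfl⟩

theorem comp_local {X Y Z M M' : Scheme.{u}} (i : Y ⟶ X) [IsClosedImmersion i] {c : ℕ}
    (hi : RegImm.IsRegularImmersionOfCodim RegImm.Kind.regular c i)
    (i' : Z ⟶ Y) [IsClosedImmersion i'] {c' : ℕ}
    (hi' : RegImm.IsRegularImmersionOfCodim RegImm.Kind.regular c' i')
    (b : M ⟶ CohB1.ProjSpaceOver 1 X) (hb : BlowUp.IsBlowUp b ((i' ≫ i) ≫ P1.sect X 1).ker)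
    (b' : M' ⟶ CohB1.ProjSpaceOver 1 Y) (hb' : BlowUp.IsBlowUp b' (i' ≫ P1.sect Y 1).ker)
    (j : M' ⟶ M) [IsClosedImmersion j] (hj : j ≫ b = b' ≫ P1.toP1 i) (m : M') :
    ∃ D : M.affineOpens, j m ∈ D.1 ∧ ∃ rs : List Γ(M, D.1),
      RingTheory.Sequence.IsRegular Γ(M, D.1) rs ∧ RingHom.ker (j.app D.1).hom = Ideal.ofList rs := by
  classical
  set z := b' m with hzdef
  set y := CohB1.ProjSpaceOver.toBase 1 Y z with hydef
  obtain ⟨U₀, hyU₀, -, rs₀, hlen, hrs₀, hker₀⟩ := hi.2 y
  change IsRegular Γ(X, U₀.1) rs₀ at hrs₀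
  obtain ⟨f₀, rfl⟩ : ∃ f : Fin c → Γ(X, U₀.1), rs₀ = List.ofFn f :=
    ⟨fun m => rs₀.get (Fin.cast hlen.symm m), List.ext_getElem (by simp [hlen]) fun n h1 h2 => by simp⟩
  rw [ofList_ofFn] at hker₀
  by_cases hA : z ∈ CycP1Lib.chartOpen Y (1 : Fin (1 + 1)) ∧ y ∈ Set.range i'
  · obtain ⟨hz1, ζ, hζ⟩ := hA
    obtain ⟨V₀, hζV, -, rs₁, hlen', hrs₁, hker₁⟩ := hi'.2 ζ
    change IsRegular Γ(Y, V₀.1) rs₁ at hrs₁
    obtain ⟨g₀, rfl⟩ : ∃ g : Fin c' → Γ(Y, V₀.1), rs₁ = List.ofFn g :=
      ⟨fun m => rs₁.get (Fin.cast hlen'.symm m), List.ext_getElem (by simp [hlen']) fun n h1 h2 => by simp⟩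
    rw [ofList_ofFn] at hker₁
    obtain ⟨O, hO, hOV⟩ := i.isClosedEmbedding.isInducing.isOpen_iff.1 V₀.1.isOpen
    obtain ⟨U, hyU, hUle⟩ := BlowUpLib.exists_affine (i y) (W := U₀.1 ⊓ ⟨O, hO⟩)
      ⟨hyU₀, (Set.ext_iff.1 hOV y).2 (hζ ▸ hζV)⟩
    have hU₀ : U.1 ≤ U₀.1 := hUle.trans inf_le_left
    let V : Y.affineOpens := ⟨i ⁻¹ᵁ U.1, U.2.preimage i⟩
    have hV₀ : V.1 ≤ V₀.1 := fun w hw => (Set.ext_iff.1 hOV w).1 (hUle hw).2
    let f : Fin c → Γ(X, U.1) := fun m => X.presheaf.map (homOfLE hU₀).op (f₀ m)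
    let g' : Fin c' → Γ(Y, V.1) := fun m => Y.presheaf.map (homOfLE hV₀).op (g₀ m)
    have hf : IsWeaklyRegular Γ(X, U.1) (List.ofFn f) := weaklyRegular_res U₀.2 U.2 hU₀ f₀ hrs₀.toIsWeaklyRegular
    have hkf : RingHom.ker (i.app U.1).hom = Ideal.span (Set.range f) := ker_res i U₀ U hU₀ f₀ hker₀
    have hg : IsWeaklyRegular Γ(Y, V.1) (List.ofFn g') := weaklyRegular_res V₀.2 V.2 hV₀ g₀ hrs₁.toIsWeaklyRegular
    have hkg : RingHom.ker (i'.app V.1).hom = Ideal.span (Set.range g') := ker_res i' V₀ V hV₀ g₀ hker₁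
    have hφ : Function.Surjective (i.app U.1).hom := i.app_surjective U.1 U.2
    choose G hG using fun l => hφ (g' l)
    -- the centre downstairs
    let k := i' ≫ i
    have hkk : RingHom.ker (k.app U.1).hom = Ideal.span (Set.range (Fin.append f G)) := by
      have e : (k.app U.1).hom = ((i'.app V.1).hom).comp (i.app U.1).hom := by
        rw [show k.app U.1 = i.app U.1 ≫ i'.app V.1 from Scheme.Hom.comp_app i' i U.1]
        rfl
      have hmap : (Ideal.span (Set.range G)).map (i.app U.1).hom = Ideal.span (Set.range g') := by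
        rw [Ideal.map_span, ← Set.range_comp]
        exact congrArg (fun q => Ideal.span (Set.range q)) (funext hG)
      rw [e, ← RingHom.comap_ker, hkg, ← hmap, Ideal.comap_map_of_surjective _ hφ, ← RingHom.ker_eq_comap_bot, hkf,
        sup_comm, ← Ideal.span_union]
      congr 1
      ext x
      constructor
      · rintro (⟨a, rfl⟩ | ⟨a, rfl⟩)
        · exact ⟨Fin.castAdd _ a, Fin.append_left _ _ _⟩
        · exact ⟨Fin.natAdd _ a, Fin.append_right _ _ _⟩
      · rintro ⟨a, rfl⟩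
        induction a using Fin.addCases with
        | left a => exact Or.inl ⟨a, (Fin.append_left _ _ _).symm⟩
        | right a => exact Or.inr ⟨a, (Fin.append_right _ _ _).symm⟩
    let W : (CohB1.ProjSpaceOver 1 X).affineOpens := ⟨pc X U.1 1, isAffineOpen_pc X U.2 1⟩
    let W' : (CohB1.ProjSpaceOver 1 Y).affineOpens := ⟨pc Y V.1 1, isAffineOpen_pc Y V.2 1⟩
    have hpre : P1.toP1 i ⁻¹ᵁ W.1 = W'.1 := preimage_pc i U.1 1
    let F : Fin c → Γ(CohB1.ProjSpaceOver 1 X, W.1) := fun m => ev X U.1 1 (Polynomial.C (f m))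
    let H : Fin c' → Γ(CohB1.ProjSpaceOver 1 X, W.1) := fun l => ev X U.1 1 (Polynomial.C (G l))
    let T : Γ(CohB1.ProjSpaceOver 1 X, W.1) := ev X U.1 1 Polynomial.X
    let GG : Fin (c' + 1) → Γ(CohB1.ProjSpaceOver 1 X, W.1) := Fin.cons T H
    let gR := ((P1.toP1 i).appLE W.1 W'.1 hpre.ge).hom
    have hgRT : gR T = ev Y V.1 1 Polynomial.X :=
      (appLE_ev i U.1 1 hpre.ge Polynomial.X).trans (by rw [Polynomial.map_X])
    have hgRH : ∀ l, gR (H l) = ev Y V.1 1 (Polynomial.C (g' l)) := fun l =>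
      (appLE_ev i U.1 1 hpre.ge _).trans (by rw [Polynomial.map_C]; exact congrArg (fun q => ev Y V.1 1 (Polynomial.C q)) (hG l))
    have hsurj : Function.Surjective gR := by
      intro x
      obtain ⟨p, rfl⟩ := (ev_bijective Y V.2 1).2 x
      obtain ⟨q, rfl⟩ := Polynomial.map_surjective (i.app U.1).hom hφ p
      exact ⟨ev X U.1 1 q, appLE_ev i U.1 1 hpre.ge q⟩
    have hI : (k ≫ P1.sect X 1).ker.ideal W = Ideal.span (Set.range (Fin.append F GG)) := by
      refine (centre_ideal k U.2 _ hkk).trans ?_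
      refine le_antisymm (Ideal.span_le.2 ?_) (Ideal.span_le.2 ?_)
      · rintro _ ⟨a, rfl⟩
        induction a using Fin.cases with
        | zero => exact Ideal.subset_span ⟨Fin.natAdd c 0, by rw [Fin.append_right]; rfl⟩
        | succ a =>
          rw [Fin.cons_succ]
          induction a using Fin.addCases with
          | left a => rw [Fin.append_left]; exact Ideal.subset_span ⟨Fin.castAdd _ a, Fin.append_left _ _ _⟩
          | right a =>
            rw [Fin.append_right]
            exact Ideal.subset_span ⟨Fin.natAdd c a.succ, by rw [Fin.append_right]; rfl⟩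
      · rintro _ ⟨a, rfl⟩
        induction a using Fin.addCases with
        | left a =>
          rw [Fin.append_left]
          exact Ideal.subset_span ⟨(Fin.castAdd c' a).succ, by rw [Fin.cons_succ, Fin.append_left]⟩
        | right a =>
          rw [Fin.append_right]
          induction a using Fin.cases with
          | zero => exact Ideal.subset_span ⟨0, rfl⟩
          | succ a => exact Ideal.subset_span ⟨(Fin.natAdd c a).succ, by rw [Fin.cons_succ, Fin.append_right]; rfl⟩
    have hgGG : (fun l => gR (GG l)) = Fin.cons (ev Y V.1 1 Polynomial.X) (fun l => ev Y V.1 1 (Polynomial.C (g' l))) := by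
      funext l
      induction l using Fin.cases with
      | zero => exact hgRT
      | succ l => exact hgRH l
    have hI' : (i' ≫ P1.sect Y 1).ker.ideal W' = Ideal.span (Set.range fun l => gR (GG l)) := by
      rw [hgGG]
      exact centre_ideal i' V.2 g' hkg
    have hfull : IsWeaklyRegular Γ(CohB1.ProjSpaceOver 1 X, W.1) (List.ofFn F ++ (List.ofFn H ++ [T])) := by
      have h1 : IsWeaklyRegular Γ(X, U.1) (List.ofFn (Fin.append f G)) :=
        weaklyRegular_lift _ hφ f G hkf hf (by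
          have : (fun l => (i.app U.1).hom (G l)) = g' := funext hG
          rw [this]; exact hg)
      have h2 := (congr_ringEquiv (RingEquiv.ofBijective _ (ev_bijective X U.2 1)) _).1 (poly_regular _ h1)
      rw [List.map_append, List.map_ofFn] at h2
      have e : ((⇑(RingEquiv.ofBijective _ (ev_bijective X U.2 1)) ∘ fun m => Polynomial.C (Fin.append f G m)) :
          Fin (c + c') → _) = Fin.append F H := by
        funext a
        induction a using Fin.addCases with
        | left a => simp only [Function.comp_apply, Fin.append_left]; rfl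
        | right a => simp only [Function.comp_apply, Fin.append_right]; rfl
      rw [e, List.ofFn_fin_append, List.append_assoc] at h2
      exact h2
    have hperm : ∀ l, (GG l :: List.ofFn (GG ∘ l.succAbove)).Perm (List.ofFn H ++ [T]) := fun l => by
      refine (perm_pivot GG l).trans ?_
      rw [List.ofFn_succ]
      exact (List.perm_append_singleton T (List.ofFn H)).symm
    have hgood : ∀ l, Good (GG l) F (GG ∘ l.succAbove) := fun l => ⟨_, hfull, hperm l⟩
    have hgood' : ∀ l, Good (gR (GG l)) (Fin.elim0 : Fin 0 → Γ(CohB1.ProjSpaceOver 1 Y, W'.1))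
        (gR ∘ (GG ∘ l.succAbove)) := fun l => by
      refine ⟨(List.ofFn H ++ [T]).map gR, ?_, ?_⟩
      · rw [List.ofFn_zero, List.nil_append, List.map_append, List.map_ofFn, List.map_cons, List.map_nil, hgRT,
          show (⇑gR ∘ H) = fun l => ev Y V.1 1 (Polynomial.C (g' l)) from funext hgRH]
        have h2 := (congr_ringEquiv (RingEquiv.ofBijective _ (ev_bijective Y V.2 1)) _).1 (poly_regular _ hg)
        rw [List.map_append, List.map_ofFn] at h2
        exact h2
      · have := (hperm l).map gR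
        rw [List.map_cons, List.map_ofFn] at this
        exact this
    exact chart_main hb hb' (P1.toP1 i) j hj W W' hpre F GG hsurj
      (ker_toP1_pc i U.2 f hkf 1 hpre.ge) hI hI' hgood hgood' m ⟨hz1, (show i y ∈ U.1 from hyU)⟩
  · -- away from the centre
    obtain ⟨a, U, hU₀, hza, hyU, hdis⟩ : ∃ (a : Fin (1 + 1)) (U : X.affineOpens) (_ : U.1 ≤ U₀.1),
        z ∈ CycP1Lib.chartOpen Y a ∧ i y ∈ U.1 ∧
        ∀ ζ : Z, i (i' ζ) ∈ U.1 → a = 0 := by
      by_cases hz1 : z ∈ CycP1Lib.chartOpen Y (1 : Fin (1 + 1))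
      · have hyr : i y ∉ Set.range (i' ≫ i) := by
          rintro ⟨ζ, hζ⟩
          exact hA ⟨hz1, ζ, i.isClosedEmbedding.injective hζ⟩
        obtain ⟨U, hyU, hUle⟩ := BlowUpLib.exists_affine (i y)
          (W := U₀.1 ⊓ ⟨(Set.range (i' ≫ i))ᶜ, (i' ≫ i).isClosedEmbedding.isClosed_range.isOpen_compl⟩)
          ⟨hyU₀, hyr⟩
        exact ⟨1, U, hUle.trans inf_le_left, hz1, hyU, fun ζ hζ => absurd ⟨ζ, rfl⟩ (hUle hζ).2⟩
      · exact ⟨0, U₀, le_rfl, (CycP1Lib.mem_or Y z (1 : Fin (1 + 1))).resolve_left hz1, hyU₀, fun _ _ => rfl⟩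
    let f : Fin c → Γ(X, U.1) := fun m => X.presheaf.map (homOfLE hU₀).op (f₀ m)
    have hf : IsWeaklyRegular Γ(X, U.1) (List.ofFn f) := weaklyRegular_res U₀.2 U.2 hU₀ f₀ hrs₀.toIsWeaklyRegular
    have hkf : RingHom.ker (i.app U.1).hom = Ideal.span (Set.range f) := ker_res i U₀ U hU₀ f₀ hker₀
    let W := pc X U.1 a
    let W' := pc Y (i ⁻¹ᵁ U.1) a
    have hpre : P1.toP1 i ⁻¹ᵁ W = W' := preimage_pc i U.1 a
    have hno : ∀ (x : ↥(CohB1.ProjSpaceOver 1 X)) (ζ : Z), x ∈ W → x = P1.sect X 1 (i (i' ζ)) → False := by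
      rintro x ζ hx rfl
      have hζU : i (i' ζ) ∈ U.1 := by
        have := hx.2
        change (P1.sect X 1 ≫ CohB1.ProjSpaceOver.toBase 1 X) (i (i' ζ)) ∈ U.1 at this
        rwa [CycP1Lib.sect_toBase] at this
      have : P1.sect X 1 (i (i' ζ)) ∈ Set.range (P1.sect X 1) := ⟨_, rfl⟩
      rw [CycP1Lib.range_sect] at this
      obtain rfl := hdis ζ hζU
      exact this hx.1
    have hWc : W ≤ ((i' ≫ i) ≫ P1.sect X 1).ker.support.compl := fun x hx hx' => by
      obtain ⟨ζ, hζ⟩ := support_ker_sect (i' ≫ i) x hx'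
      exact hno x ζ hx hζ
    have hW'c : W' ≤ (i' ≫ P1.sect Y 1).ker.support.compl := fun x hx hx' => by
      obtain ⟨ζ, hζ⟩ := support_ker_sect i' x hx'
      refine hno (P1.toP1 i x) ζ (hpre.ge hx) ?_
      rw [hζ, ← Scheme.Hom.comp_apply, sect_toP1]
      rfl
    have hF : IsWeaklyRegular Γ(CohB1.ProjSpaceOver 1 X, W) (List.ofFn fun m => ev X U.1 a (Polynomial.C (f m))) := by
      have h1 := ((isWeaklyRegular_append_iff _ _ _).1 (poly_regular f hf)).1
      rw [congr_ringEquiv (RingEquiv.ofBijective _ (ev_bijective X U.2 a)), List.map_ofFn] at h1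
      exact h1
    exact off_centre hb hb' (P1.toP1 i) j hj W (isAffineOpen_pc X U.2 a) hWc W' hpre hW'c _ hF
      (ker_toP1_pc i U.2 f hkf a hpre.ge) m ⟨hza, hyU⟩

end DefoRegLib

end
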