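import Groth.Prelude.Def_P1
import Groth.Agent.CycP1Lib.Coords
import Groth.Agent.RelProjLib.Coords
import Groth.Agent.AmpleThLib.CoordApp
import Mathlib.RingTheory.Polynomial.Basic

/-!
# The charts of the projective line over an affine open: polynomial rings
-/

set_option autoImplicit false
set_option backward.isDefEq.respectTransparency false
set_option backward.isDefEq.respectTransparency.types false
set_option linter.style.haveILetI false

universe u

open AlgebraicGeometry CategoryTheory CategoryTheory.Limits TopologicalSpace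
open ChowLib Polynomial

noncomputable section

namespace DefoRegLib

variable (X : Scheme.{u})

/-- A chart over an open of the base. -/
abbrev pc (U : X.Opens) (a : Fin (1 + 1)) : (CohB1.ProjSpaceOver 1 X).Opens :=
  RelProjLib.piece (CohB1.ProjSpaceOver.toBase 1 X) (toPZ 1 X) a U

/-- The affine coordinate of a chart. -/
def co (U : X.Opens) (a : Fin (1 + 1)) : Γ(CohB1.ProjSpaceOver 1 X, pc X U a) :=
  RelProjLib.coord (toPZ 1 X) a a.rev (RelProjLib.piece_le _ _ a U)

/-- The constants of a chart. -/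
abbrev cst (U : X.Opens) (a : Fin (1 + 1)) : Γ(X, U) →+* Γ(CohB1.ProjSpaceOver 1 X, pc X U a) :=
  ((CohB1.ProjSpaceOver.toBase 1 X).appLE U (pc X U a) inf_le_right).hom

/-- Evaluation at the coordinate. -/
def ev (U : X.Opens) (a : Fin (1 + 1)) : Polynomial Γ(X, U) →+* Γ(CohB1.ProjSpaceOver 1 X, pc X U a) :=
  eval₂RingHom (cst X U a) (co X U a)

theorem ev_X (U : X.Opens) (a : Fin (1 + 1)) : ev X U a Polynomial.X = co X U a := eval₂_X _ _

theorem ev_C (U : X.Opens) (a : Fin (1 + 1)) (x : Γ(X, U)) : ev X U a (Polynomial.C x) = cst X U a x :=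
  eval₂_C _ _

theorem isAffineOpen_pc {U : X.Opens} (hU : IsAffineOpen U) (a : Fin (1 + 1)) : IsAffineOpen (pc X U a) :=
  RelProjLib.isAffineOpen_piece _ _ (𝟙 _) (Category.id_comp _) (Category.id_comp _) a hU

/-- The coordinate pulled back along a morphism landing in the chart through a point. -/
theorem appLE_co {Y : Scheme.{u}} (r : Y ⟶ CohB1.ProjSpaceOver 1 X) (U : X.Opens) (a : Fin (1 + 1))
    (v : Fin (1 + 1) → Γ(Y, ⊤)) (hv : v a = 1)
    (hr : r ≫ toPZ 1 X = pt v a (by rw [hv]; exact isUnit_one)) (h : ⊤ ≤ r ⁻¹ᵁ pc X U a) :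
    r.appLE (pc X U a) ⊤ h (co X U a) = v a.rev := by
  rw [co, AmpleThLib.coord_eq, ← CommRingCat.comp_apply, Scheme.Hom.appLE_comp_appLE]
  have hu : IsUnit (v a) := by rw [hv]; exact isUnit_one
  have key : ∀ (q : Y ⟶ PZ.{u} 1) (_ : q = pt v a hu) (h' : ⊤ ≤ q ⁻¹ᵁ Dplus a),
      q.appLE (Dplus a) ⊤ h' (AmpleThLib.cj a a.rev) = v a.rev := by
    rintro q rfl h'
    refine (AmpleThLib.toSpecOf_awayι_appLE (gr.{u} 1) (X_mem a) one_pos _ h' (coordRing a a.rev)).trans ?_
    have := awayEval_coord v a a.rev (by simpa using hu)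
    exact (mul_one _).symm.trans ((congrArg (_ * ·) hv.symm).trans this)
  exact key _ hr _

theorem ev_bijective {U : X.Opens} (hU : IsAffineOpen U) (a : Fin (1 + 1)) :
    Function.Bijective (ev X U a) := by
  classical
  refine ⟨?_, fun y => ?_⟩
  · let A := Γ(X, U)
    let B := CommRingCat.of (Polynomial A)
    let w : Fin (1 + 1) → Γ(Spec B, ⊤) := fun j =>
      (Scheme.ΓSpecIso B).inv (if j = a then 1 else Polynomial.X)
    have hw : w a = 1 := by simp [w]
    let b : Spec B ⟶ X := Spec.map (CommRingCat.ofHom (Polynomial.C : A →+* Polynomial A)) ≫ hU.fromSpec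
    let r : Spec B ⟶ CohB1.ProjSpaceOver 1 X := poLift (pt w a (by rw [hw]; exact isUnit_one)) b
    have hr : ⊤ ≤ r ⁻¹ᵁ pc X U a := fun y _ => by
      refine ⟨?_, ?_⟩
      · change y ∈ (r ≫ toPZ 1 X) ⁻¹ᵁ Dplus a
        rw [poLift_toPZ, pt_preimage, hw, Scheme.basicOpen_of_isUnit _ isUnit_one]
        trivial
      · change y ∈ (r ≫ CohB1.ProjSpaceOver.toBase 1 X) ⁻¹ᵁ U
        rw [poLift_toBase]
        exact hU.range_fromSpec.le ⟨_, rfl⟩
    have key : (r.appLE (pc X U a) ⊤ hr).hom.comp (ev X U a) = (Scheme.ΓSpecIso B).inv.hom := by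
      refine Polynomial.ringHom_ext (fun x => ?_) ?_
      · rw [RingHom.comp_apply, ev_C]
        show (((CohB1.ProjSpaceOver.toBase 1 X).appLE U (pc X U a) inf_le_right) ≫ r.appLE (pc X U a) ⊤ hr) x = _
        rw [Scheme.Hom.appLE_comp_appLE]
        have h1 : ∀ (g : Spec B ⟶ X) (_ : g = b) (h' : ⊤ ≤ g ⁻¹ᵁ U),
            g.appLE U ⊤ h' x = (Scheme.ΓSpecIso B).inv (Polynomial.C x) := by
          rintro g rfl h'
          have h2 : ⊤ ≤ hU.fromSpec ⁻¹ᵁ U := by rw [hU.fromSpec_preimage_self]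
          rw [← Scheme.Hom.appLE_comp_appLE (Spec.map (CommRingCat.ofHom (Polynomial.C : A →+* Polynomial A)))
            hU.fromSpec U ⊤ ⊤ h2 (by simp)]
          have e : hU.fromSpec.appLE U ⊤ h2 = (Scheme.ΓSpecIso Γ(X, U)).inv := by
            rw [Scheme.Hom.appLE, hU.fromSpec_app_self, Category.assoc, ← Functor.map_comp]
            exact (congrArg ((Scheme.ΓSpecIso Γ(X, U)).inv ≫ ·) ((congrArg ((Spec Γ(X, U)).presheaf.map)
              (Subsingleton.elim _ (𝟙 _))).trans ((Spec Γ(X, U)).presheaf.map_id _))).trans (Category.comp_id _)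
          rw [e, CommRingCat.comp_apply]
          have h3 := DFunLike.congr_fun (congrArg CommRingCat.Hom.hom
            (Scheme.ΓSpecIso_inv_naturality (CommRingCat.ofHom (Polynomial.C : A →+* Polynomial A)))) x
          have e2 : (Spec.map (CommRingCat.ofHom (Polynomial.C : A →+* Polynomial A))).appLE ⊤ ⊤ (by simp) =
              (Spec.map (CommRingCat.ofHom (Polynomial.C : A →+* Polynomial A))).appTop := by
            simp [Scheme.Hom.appLE, Scheme.Hom.appTop]
          rw [e2]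
          exact h3.symm
        exact h1 _ (poLift_toBase _ _) _
      · rw [RingHom.comp_apply, ev_X]
        refine (appLE_co X r U a w hw (poLift_toPZ _ _) hr).trans ?_
        show (Scheme.ΓSpecIso B).inv (if a.rev = a then 1 else Polynomial.X) = _
        rw [if_neg (CycP1Lib.rev_ne a)]
    intro p q h
    have := congrArg (r.appLE (pc X U a) ⊤ hr).hom h
    rw [← RingHom.comp_apply, ← RingHom.comp_apply, key] at this
    exact (ConcreteCategory.bijective_of_isIso (Scheme.ΓSpecIso B).inv).1 this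
  · obtain ⟨p, rfl⟩ := RelProjLib.evalA_surjective (CohB1.ProjSpaceOver.toBase 1 X) (toPZ 1 X) (𝟙 _)
      (Category.id_comp _) (Category.id_comp _) a hU y
    refine ⟨MvPolynomial.eval₂Hom Polynomial.C (fun j => if j = a then 1 else Polynomial.X) p, ?_⟩
    rw [← RingHom.comp_apply]
    congr 1
    refine MvPolynomial.ringHom_ext (fun x => ?_) fun j => ?_
    · rw [RingHom.comp_apply, MvPolynomial.eval₂Hom_C, ev_C]
      exact (MvPolynomial.eval₂Hom_C _ _ _).symm
    · rw [RingHom.comp_apply, MvPolynomial.eval₂Hom_X']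
      refine Eq.trans ?_ (MvPolynomial.eval₂Hom_X' _ _ _).symm
      rcases CycP1Lib.eq_or_rev j a with rfl | rfl
      · rw [if_pos rfl, map_one, RelProjLib.coord_self]
      · rw [if_neg (CycP1Lib.rev_ne a), ev_X]
        rfl

variable {X}
variable {Y : Scheme.{u}} (i : Y ⟶ X)

theorem toP1_toPZ : P1.toP1 i ≫ toPZ 1 X = toPZ 1 Y :=
  (pullback.lift_fst _ _ _).trans (Category.comp_id _)

theorem toP1_toBase : P1.toP1 i ≫ CohB1.ProjSpaceOver.toBase 1 X = CohB1.ProjSpaceOver.toBase 1 Y ≫ i :=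
  pullback.lift_snd _ _ _

theorem preimage_pc (U : X.Opens) (a : Fin (1 + 1)) :
    P1.toP1 i ⁻¹ᵁ pc X U a = pc Y (i ⁻¹ᵁ U) a := by
  ext y
  show (P1.toP1 i ≫ toPZ 1 X) y ∈ Dplus a ∧ (P1.toP1 i ≫ CohB1.ProjSpaceOver.toBase 1 X) y ∈ U ↔ _
  rw [toP1_toPZ, toP1_toBase]
  rfl

/-- Restriction to the closed sub-line in coordinates. -/
theorem appLE_ev (U : X.Opens) (a : Fin (1 + 1)) (h : pc Y (i ⁻¹ᵁ U) a ≤ P1.toP1 i ⁻¹ᵁ pc X U a)
    (p : Polynomial Γ(X, U)) :
    (P1.toP1 i).appLE (pc X U a) (pc Y (i ⁻¹ᵁ U) a) h (ev X U a p) =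
      ev Y (i ⁻¹ᵁ U) a (p.map (i.app U).hom) := by
  rw [← Polynomial.coe_mapRingHom, ← RingHom.comp_apply, ← RingHom.comp_apply]
  congr 1
  refine Polynomial.ringHom_ext (fun x => ?_) ?_
  · rw [RingHom.comp_apply, RingHom.comp_apply, ev_C, Polynomial.coe_mapRingHom, Polynomial.map_C, ev_C]
    simp only [cst]
    rw [← CommRingCat.comp_apply, ← CommRingCat.comp_apply, Scheme.Hom.appLE_comp_appLE,
      Scheme.Hom.app_eq_appLE, Scheme.Hom.appLE_comp_appLE]
    congr 3
    exact toP1_toBase i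
  · rw [RingHom.comp_apply, RingHom.comp_apply, ev_X, Polynomial.coe_mapRingHom, Polynomial.map_X, ev_X]
    rw [co, co, AmpleThLib.coord_eq, AmpleThLib.coord_eq, ← CommRingCat.comp_apply,
      Scheme.Hom.appLE_comp_appLE]
    congr 3
    exact toP1_toPZ i

theorem sect_mem_pc (U : X.Opens) (a : Fin (1 + 1)) : P1.sect X a ⁻¹ᵁ pc X U a = U := by
  ext x
  show P1.sect X a x ∈ CycP1Lib.chartOpen X a ∧ (P1.sect X a ≫ CohB1.ProjSpaceOver.toBase 1 X) x ∈ U ↔ _
  rw [CycP1Lib.sect_toBase]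
  exact ⟨fun h => h.2, fun h => ⟨CycP1Lib.sect_mem a x, h⟩⟩

/-- The section is evaluation at zero. -/
theorem appLE_sect (U : X.Opens) (a : Fin (1 + 1)) (h : U ≤ P1.sect X a ⁻¹ᵁ pc X U a)
    (p : Polynomial Γ(X, U)) :
    (P1.sect X a).appLE (pc X U a) U h (ev X U a p) = p.eval 0 := by
  rw [← Polynomial.coe_evalRingHom, ← RingHom.comp_apply]
  congr 1
  refine Polynomial.ringHom_ext (fun x => ?_) ?_
  · rw [RingHom.comp_apply, ev_C, Polynomial.coe_evalRingHom, Polynomial.eval_C]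
    simp only [cst]
    rw [← CommRingCat.comp_apply, Scheme.Hom.appLE_comp_appLE]
    have key : ∀ (g : X ⟶ X) (_ : g = 𝟙 X) (h' : U ≤ g ⁻¹ᵁ U), g.appLE U U h' x = x := by
      rintro g rfl h'
      simp [Scheme.Hom.appLE]
      exact congr(($(X.presheaf.map_id (Opposite.op U))).hom x)
    exact key _ (CycP1Lib.sect_toBase a) _
  · rw [RingHom.comp_apply, ev_X, Polynomial.coe_evalRingHom, Polynomial.eval_X]
    rw [co, AmpleThLib.coord_eq, ← CommRingCat.comp_apply, Scheme.Hom.appLE_comp_appLE]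
    have h1 : ⊤ ≤ P1.point.{u} a ⁻¹ᵁ Dplus a := fun z _ => CycP1Lib.point_mem a z
    have h2 : (P1.point.{u} a).appLE (Dplus a) ⊤ h1 (AmpleThLib.cj a a.rev) = 0 := by
      have key : ∀ (g : Spec (CommRingCat.of P1.R0.{u}) ⟶ PZ.{u} 1)
          (_ : g = toSpecOf ((Scheme.ΓSpecIso (CommRingCat.of P1.R0.{u})).inv.hom.comp (P1.evalAway a)) ≫ chart a)
          (h' : ⊤ ≤ g ⁻¹ᵁ Dplus a), g.appLE (Dplus a) ⊤ h' (AmpleThLib.cj a a.rev) = 0 := by
        rintro g rfl h'
        refine (AmpleThLib.toSpecOf_awayι_appLE (gr.{u} 1) (X_mem a) one_pos _ h' (coordRing a a.rev)).trans ?_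
        rw [RingHom.comp_apply, CycP1Lib.evalAway_coordRing, if_neg (CycP1Lib.rev_ne a), map_zero]
      exact key _ (CycP1Lib.point_eq a) h1
    have key2 : ∀ (g : X ⟶ PZ.{u} 1) (_ : g = specULiftZIsTerminal.from X ≫ P1.point.{u} a)
        (h' : U ≤ g ⁻¹ᵁ Dplus a), g.appLE (Dplus a) U h' (AmpleThLib.cj a a.rev) = 0 := by
      rintro g rfl h'
      rw [← Scheme.Hom.appLE_comp_appLE (specULiftZIsTerminal.from X) (P1.point.{u} a) (Dplus a) ⊤ U h1
        (fun x _ => trivial), CommRingCat.comp_apply, h2, map_zero]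
    exact key2 _ (CycP1Lib.sect_toPZ a) _

end DefoRegLib

end
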