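import Groth.Prelude.Def_RegImm
import Groth.Prelude.Def_BlowUp2
import Groth.Agent.DefoRegLib.Alg
import Groth.Agent.DefoRegLib.Coords
import Groth.Agent.BlowProjLib.Charts
import Groth.Agent.BlowUpLib.Props
import Groth.Agent.EffCartLib.Basic

/-!
# The strict transform of the projective line in the deformation to the normal cone
-/

set_option autoImplicit false
set_option maxHeartbeats 1000000
set_option backward.isDefEq.respectTransparency false
set_option backward.isDefEq.respectTransparency.types false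
set_option linter.style.haveILetI false

universe u

open AlgebraicGeometry CategoryTheory CategoryTheory.Limits TopologicalSpace RingTheory.Sequence
open ChowLib

noncomputable section

namespace DefoRegLib

theorem ofList_ofFn {A : Type u} [CommRing A] {n : ℕ} (f : Fin n → A) :
    Ideal.ofList (List.ofFn f) = Ideal.span (Set.range f) := by
  rw [Ideal.ofList]
  congr 1
  ext x
  exact List.mem_ofFn

theorem poly_regular {A : Type u} [CommRing A] {c : ℕ} (f : Fin c → A)
    (h : IsWeaklyRegular A (List.ofFn f)) :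
    IsWeaklyRegular (Polynomial A) (List.ofFn (fun m => Polynomial.C (f m)) ++ [Polynomial.X]) := by
  have h1 := IsWeaklyRegular.of_flat (S := Polynomial A) h
  rw [List.map_ofFn] at h1
  refine (isWeaklyRegular_append_iff _ _ _).2 ⟨h1, (isWeaklyRegular_singleton_iff _ _).2 ?_⟩
  refine isSMulRegular_iff_right_eq_zero_of_smul.2 fun x hx => ?_
  obtain ⟨p, rfl⟩ := Submodule.Quotient.mk_surjective _ x
  rw [← Submodule.Quotient.mk_smul, Submodule.Quotient.mk_eq_zero] at hx
  rw [Submodule.Quotient.mk_eq_zero]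
  have e : (Ideal.ofList (List.ofFn fun m => Polynomial.C (f m)) • ⊤ : Submodule (Polynomial A) (Polynomial A)) =
      (Ideal.span (Set.range f)).map Polynomial.C := by
    rw [smul_eq_mul, Ideal.mul_top, ofList_ofFn, Ideal.map_span, ← Set.range_comp]
    rfl
  rw [e, smul_eq_mul, Ideal.mem_map_C_iff] at hx
  rw [e, Ideal.mem_map_C_iff]
  intro n
  have := hx (n + 1)
  rwa [Polynomial.coeff_X_mul] at this

theorem ker_ev_comp {A B R' : Type u} [CommRing A] [CommRing B] [CommRing R'] (φ : A →+* B)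
    (e' : Polynomial B →+* R') (he' : Function.Injective e') (p : Polynomial A) :
    e' (p.map φ) = 0 ↔ p ∈ (RingHom.ker φ).map Polynomial.C := by
  rw [← Polynomial.ker_mapRingHom, RingHom.mem_ker]
  exact map_eq_zero_iff e' he'

variable {X Y M : Scheme.{u}} (i : Y ⟶ X) (b : M ⟶ CohB1.ProjSpaceOver 1 X)
  (j : CohB1.ProjSpaceOver 1 Y ⟶ M)

theorem local_main (hb : BlowUp.IsBlowUp b (i ≫ P1.sect X 1).ker) (hj : j ≫ b = P1.toP1 i)
    [IsClosedImmersion i] [IsClosedImmersion j] (c : ℕ)
    (hi : RegImm.IsRegularImmersionOfCodim RegImm.Kind.regular c i) (z : ↥(CohB1.ProjSpaceOver 1 Y)) :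
    ∃ D : M.affineOpens, j z ∈ D.1 ∧ ∃ rs : List Γ(M, D.1), rs.length = c ∧
      RingTheory.Sequence.IsRegular Γ(M, D.1) rs ∧ RingHom.ker (j.app D.1).hom = Ideal.ofList rs := by
  classical
  obtain ⟨⟨U, hU⟩, hyU, -, rs, hlen, hrs, hker⟩ := hi.2 (CohB1.ProjSpaceOver.toBase 1 Y z)
  change IsRegular Γ(X, U) rs at hrs
  obtain ⟨f, rfl⟩ : ∃ f : Fin c → Γ(X, U), rs = List.ofFn f :=
    ⟨fun m => rs.get (Fin.cast hlen.symm m), List.ext_getElem (by simp [hlen]) fun n h1 h2 => by simp⟩
  rw [ofList_ofFn] at hker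
  have hU' : IsAffineOpen (i ⁻¹ᵁ U) := hU.preimage i
  let φ := (i.app U).hom
  let g := P1.toP1 i
  have hzP : ∀ a, z ∈ CycP1Lib.chartOpen Y a → z ∈ pc Y (i ⁻¹ᵁ U) a := fun a ha => ⟨ha, hyU⟩
  -- common data of a chart
  have hfgen : ∀ a (h : pc Y (i ⁻¹ᵁ U) a ≤ g ⁻¹ᵁ pc X U a),
      RingHom.ker (g.appLE (pc X U a) (pc Y (i ⁻¹ᵁ U) a) h).hom =
        Ideal.span (Set.range fun m => ev X U a (Polynomial.C (f m))) := by
    intro a h
    refine le_antisymm (fun x hx => ?_) ?_
    · obtain ⟨p, rfl⟩ := (ev_bijective X hU a).2 x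
      rw [RingHom.mem_ker] at hx
      have hx' := (appLE_ev i U a h p).symm.trans hx
      rw [ker_ev_comp _ _ (ev_bijective Y hU' a).1, hker] at hx'
      have := Ideal.mem_map_of_mem (ev X U a) hx'
      rw [Ideal.map_map, Ideal.map_span, ← Set.range_comp] at this
      exact this
    · rw [Ideal.span_le]
      rintro _ ⟨m, rfl⟩
      rw [SetLike.mem_coe, RingHom.mem_ker]
      refine (appLE_ev i U a h _).trans ?_
      rw [Polynomial.map_C, show (i.app U).hom (f m) = 0 from
        RingHom.mem_ker.1 (hker.ge (Ideal.subset_span ⟨m, rfl⟩)), map_zero, map_zero]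
  have hnontriv : ∀ a, z ∈ pc Y (i ⁻¹ᵁ U) a → Nontrivial Γ(CohB1.ProjSpaceOver 1 Y, pc Y (i ⁻¹ᵁ U) a) := by
    intro a ha
    haveI : Nonempty (pc Y (i ⁻¹ᵁ U) a).toScheme := ⟨⟨z, ha⟩⟩
    exact Scheme.component_nontrivial (CohB1.ProjSpaceOver 1 Y) _
  by_cases hz : z ∈ CycP1Lib.chartOpen Y (1 : Fin (1 + 1))
  · -- near the section at infinity
    let a : Fin (1 + 1) := 1
    let P := CohB1.ProjSpaceOver 1 X
    let W : P.affineOpens := ⟨pc X U a, isAffineOpen_pc X hU a⟩
    let W' := pc Y (i ⁻¹ᵁ U) a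
    have hzW' : z ∈ W' := hzP a hz
    have hW' : IsAffineOpen W' := isAffineOpen_pc Y hU' a
    let R := Γ(P, W.1)
    let R' := Γ(CohB1.ProjSpaceOver 1 Y, W')
    let t : R := ev X U a Polynomial.X
    let F : Fin c → R := fun m => ev X U a (Polynomial.C (f m))
    let G : Fin (c + 1) → R := Fin.cons t F
    -- the ideal of the centre
    let 𝓘 := (i ≫ P1.sect X a).ker
    have hI : 𝓘.ideal W = Ideal.span (Set.range G) := by
      haveI : IsClosedImmersion (P1.sect X a) := inferInstance
      rw [Scheme.Hom.ker_apply]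
      have hpre : i ⁻¹ᵁ U ≤ (i ≫ P1.sect X a) ⁻¹ᵁ pc X U a := by
        rw [Scheme.Hom.comp_preimage, sect_mem_pc]
      have hpre' : (i ≫ P1.sect X a) ⁻¹ᵁ pc X U a = i ⁻¹ᵁ U := by
        rw [Scheme.Hom.comp_preimage, sect_mem_pc]
      have hsU : U ≤ P1.sect X a ⁻¹ᵁ pc X U a := (sect_mem_pc U a).ge
      have hev : ∀ p, (i ≫ P1.sect X a).appLE (pc X U a) (i ⁻¹ᵁ U) hpre (ev X U a p) = φ (p.eval 0) := by
        intro p
        rw [← Scheme.Hom.appLE_comp_appLE i (P1.sect X a) (pc X U a) U (i ⁻¹ᵁ U) hsU le_rfl,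
          CommRingCat.comp_apply, appLE_sect, ← Scheme.Hom.app_eq_appLE]
      have hmem : ∀ x, x ∈ RingHom.ker ((i ≫ P1.sect X a).app W.1).hom ↔
          (i ≫ P1.sect X a).appLE (pc X U a) (i ⁻¹ᵁ U) hpre x = 0 := by
        intro x
        rw [RingHom.mem_ker, Scheme.Hom.appLE, CommRingCat.comp_apply]
        haveI : IsIso (Y.presheaf.map (homOfLE hpre).op) := by
          rw [show (homOfLE hpre) = eqToHom hpre'.symm from Subsingleton.elim _ _, eqToHom_op]
          infer_instance
        exact (map_eq_zero_iff _ (ConcreteCategory.bijective_of_isIso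
          (Y.presheaf.map (homOfLE hpre).op)).1).symm
      refine le_antisymm (fun x hx => ?_) ?_
      · obtain ⟨p, rfl⟩ := (ev_bijective X hU a).2 x
        rw [hmem, hev] at hx
        rw [← Polynomial.coeff_zero_eq_eval_zero] at hx
        rw [← Polynomial.X_mul_divX_add p, map_add, map_mul]
        refine Ideal.add_mem _ (Ideal.mul_mem_right _ _ (Ideal.subset_span ⟨0, rfl⟩)) ?_
        have := Ideal.mem_map_of_mem ((ev X U a).comp Polynomial.C) (hker.le hx)
        rw [Ideal.map_span, ← Set.range_comp] at this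
        have hsub : Set.range (((ev X U a).comp Polynomial.C) ∘ f) ⊆ Set.range G := by
          rintro _ ⟨m, rfl⟩
          exact ⟨m.succ, Fin.cons_succ _ _ _⟩
        exact Ideal.span_mono hsub this
      · rw [Ideal.span_le]
        rintro _ ⟨k, rfl⟩
        rw [SetLike.mem_coe, hmem]
        induction k using Fin.cases with
        | zero => simp only [G, t, Fin.cons_zero]; rw [hev, Polynomial.eval_X, map_zero]
        | succ m =>
          simp only [G, F, Fin.cons_succ]
          rw [hev, Polynomial.eval_C]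
          exact RingHom.mem_ker.1 (hker.ge (Ideal.subset_span ⟨m, rfl⟩))
    have hreg : IsWeaklyRegular R (List.ofFn F ++ [t]) := by
      have := (congr_ringEquiv (RingEquiv.ofBijective _ (ev_bijective X hU a)) _).1
        (poly_regular f hrs.toIsWeaklyRegular)
      rw [List.map_append, List.map_ofFn] at this
      exact this
    -- the chart
    have hP : BlowUp.IsBlowUp (pullback.fst W.2.fromSpec b)
        (BlowUpLib.specIdeal (A := R) (Ideal.span (Set.range G))) :=
      hI ▸ BlowUpLib.comap_fromSpec 𝓘 W ▸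
        BlowUpLib.isBlowUp_of_isPullback (IsPullback.of_hasPullback W.2.fromSpec b).flip hb
    obtain ⟨ch, hch, -, -⟩ := BlowProjLib.exists_charts G hP
    obtain ⟨hch1, hch2⟩ := hch 0
    haveI := hch1
    let J : Ideal R := Ideal.span (Set.range G)
    let C := BlowUp.affineAlgebra R J t
    let cM : Spec (CommRingCat.of C) ⟶ M := ch 0 ≫ pullback.snd W.2.fromSpec b
    haveI : IsOpenImmersion cM := inferInstance
    have hcM : cM ≫ b = Spec.map (CommRingCat.ofHom (algebraMap R C)) ≫ W.2.fromSpec := by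
      show (ch 0 ≫ _) ≫ b = _
      rw [Category.assoc, ← pullback.condition, ← Category.assoc]
      exact congrArg (· ≫ W.2.fromSpec) hch2
    have hle : W' ≤ g ⁻¹ᵁ W.1 := (preimage_pc i U a).ge
    let gR : R →+* R' := (g.appLE W.1 W' hle).hom
    let t' : R' := gR t
    have ht' : t' = ev Y (i ⁻¹ᵁ U) a Polynomial.X :=
      (appLE_ev i U a hle Polynomial.X).trans (by rw [Polynomial.map_X])
    have ht'nz : t' ∈ nonZeroDivisors R' := by
      rw [ht']
      exact BlowUpLib.nzd_of_bijective _ (ev_bijective Y hU' a) (Polynomial.monic_X.mem_nonZeroDivisors)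
    have hgF : ∀ m, gR (F m) = 0 := fun m => RingHom.mem_ker.1 ((hfgen a hle).ge (Ideal.subset_span ⟨m, rfl⟩))
    have hspan : J.map gR = Ideal.span {t'} := by
      refine le_antisymm ?_ ((Ideal.span_singleton_le_iff_mem _).mpr
        (Ideal.mem_map_of_mem _ (Ideal.subset_span ⟨0, Fin.cons_zero _ _⟩)))
      rw [Ideal.map_span, Ideal.span_le]
      rintro _ ⟨_, ⟨k, rfl⟩, rfl⟩
      induction k using Fin.cases with
      | zero => exact Ideal.subset_span rfl
      | succ m =>
        simp only [G, Fin.cons_succ, SetLike.mem_coe, hgF]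
        exact Ideal.zero_mem _
    obtain ⟨ψ, hψ, -⟩ := (BlowUpLib.isChart_affineAlgebra (I := J) (a := t)
      (Ideal.subset_span ⟨0, Fin.cons_zero _ _⟩)).lift R' gR ht'nz hspan
    let v : Fin c → C := fun m => BlowUpLib.chartVar G 0 m.succ
    have hv : ∀ m, v m * algebraMap R C t = algebraMap R C (F m) := fun m => by
      exact BlowUpLib.chartVar_mul G 0 m.succ
    have hψv : ∀ m, ψ (v m) = 0 := fun m => by
      have h1 := congrArg ψ (hv m)
      rw [map_mul, ← RingHom.comp_apply, ← RingHom.comp_apply ψ (algebraMap R C) (F m), hψ, hgF] at h1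
      exact mem_nonZeroDivisors_iff_right.mp ht'nz _ h1
    obtain ⟨hsurj, -⟩ := presentation t F hreg J rfl v hv
    have hkψ : RingHom.ker ψ = Ideal.span (Set.range v) := by
      refine le_antisymm (fun x hx => ?_) (Ideal.span_le.2 (by rintro _ ⟨m, rfl⟩; exact hψv m))
      obtain ⟨p, rfl⟩ := hsurj x
      have hmod : MvPolynomial.aeval (R := R) v p - algebraMap R C (MvPolynomial.constantCoeff p) ∈
          Ideal.span (Set.range v) := by
        rw [← Ideal.Quotient.eq]
        have : (Ideal.Quotient.mk (Ideal.span (Set.range v))).comp (MvPolynomial.aeval (R := R) v).toRingHom =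
            ((Ideal.Quotient.mk (Ideal.span (Set.range v))).comp (algebraMap R C)).comp
              MvPolynomial.constantCoeff := by
          refine MvPolynomial.ringHom_ext (fun r => ?_) fun m => ?_
          · simp
          · simp only [RingHom.comp_apply, AlgHom.toRingHom_eq_coe, RingHom.coe_coe, MvPolynomial.aeval_X,
              MvPolynomial.constantCoeff_X, map_zero]
            exact Ideal.Quotient.eq_zero_iff_mem.2 (Ideal.subset_span ⟨m, rfl⟩)
        exact RingHom.congr_fun this p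
      have h0 : ψ (MvPolynomial.aeval (R := R) v p - algebraMap R C (MvPolynomial.constantCoeff p)) = 0 :=
        (Ideal.span_le (I := RingHom.ker ψ)).2 (by rintro _ ⟨m, rfl⟩; exact hψv m) hmod
      rw [map_sub, RingHom.mem_ker.1 hx, zero_sub, neg_eq_zero, ← RingHom.comp_apply, hψ] at h0
      have h2 : algebraMap R C (MvPolynomial.constantCoeff p) ∈ Ideal.span (Set.range v) := by
        have h3 : MvPolynomial.constantCoeff p ∈ Ideal.span (Set.range F) := (hfgen a hle).le h0
        have h4 := Ideal.mem_map_of_mem (algebraMap R C) h3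
        rw [Ideal.map_span, ← Set.range_comp] at h4
        refine (Ideal.span_le.2 ?_) h4
        rintro _ ⟨m, rfl⟩
        rw [SetLike.mem_coe, Function.comp_apply, ← hv m]
        exact Ideal.mul_mem_right _ _ (Ideal.subset_span ⟨m, rfl⟩)
      have := Ideal.add_mem _ hmod h2
      rwa [sub_add_cancel] at this
    -- the sub-line through the chart
    have hcomm : (hW'.fromSpec ≫ j) ≫ b = (Spec.map (CommRingCat.ofHom ψ) ≫ cM) ≫ b := by
      rw [Category.assoc, hj, Category.assoc, hcM, ← Category.assoc, ← Spec.map_comp, ← CommRingCat.ofHom_comp,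
        hψ]
      exact (IsAffineOpen.SpecMap_appLE_fromSpec g W.2 hW' hle).symm
    have hcart : BlowUp.IsEffCartierIdeal (𝓘.comap ((Spec.map (CommRingCat.ofHom ψ) ≫ cM) ≫ b)) := by
      rw [Category.assoc, hcM, ← Category.assoc, ← Spec.map_comp, ← CommRingCat.ofHom_comp, hψ,
        Scheme.IdealSheafData.comap_comp, BlowUpLib.comap_fromSpec, BlowUpLib.comap_specIdeal, hI, hspan]
      exact BlowUpLib.isEffCartier_specIdeal ht'nz
    have heq : hW'.fromSpec ≫ j = Spec.map (CommRingCat.ofHom ψ) ≫ cM := by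
      obtain ⟨l, -, hu⟩ := hb.2 _ _ hcart
      exact (hu _ hcomm).trans (hu _ rfl).symm
    let D : M.affineOpens := ⟨cM.opensRange, isAffineOpen_opensRange cM⟩
    have hDW : j ⁻¹ᵁ D.1 = W' := by
      refine le_antisymm (fun y hy => ?_) fun y hy => ?_
      · obtain ⟨w, hw⟩ := hy
        have h1 : g y ∈ W.1 := by
          have e : (j ≫ b) y = (cM ≫ b) w := by
            rw [Scheme.Hom.comp_apply, Scheme.Hom.comp_apply, hw]
          rw [hj, hcM] at e
          show g y ∈ (W.1 : Set P)
          rw [e, ← W.2.range_fromSpec]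
          exact ⟨_, rfl⟩
        exact (preimage_pc i U a).le h1
      · obtain ⟨w, rfl⟩ : y ∈ Set.range hW'.fromSpec := hW'.range_fromSpec.symm ▸ hy
        exact ⟨Spec.map (CommRingCat.ofHom ψ) w, congr(($heq).base w).symm⟩
    have htop : ⊤ ≤ cM ⁻¹ᵁ D.1 := fun w _ => ⟨w, rfl⟩
    let E : Γ(M, D.1) →+* C :=
      ((Scheme.ΓSpecIso (CommRingCat.of C)).hom.hom).comp (cM.appLE D.1 ⊤ htop).hom
    have hE : Function.Bijective E := by
      refine (ConcreteCategory.bijective_of_isIso (Scheme.ΓSpecIso (CommRingCat.of C)).hom).comp ?_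
      have hpre : cM ⁻¹ᵁ D.1 = ⊤ := top_le_iff.1 htop
      haveI : IsIso (cM.app D.1) := cM.isIso_app _ le_rfl
      haveI : IsIso ((Spec (CommRingCat.of C)).presheaf.map (homOfLE htop).op) := by
        rw [show (homOfLE htop) = eqToHom hpre.symm from Subsingleton.elim _ _, eqToHom_op]
        infer_instance
      exact (ConcreteCategory.bijective_of_isIso (cM.app D.1 ≫ (Spec (CommRingCat.of C)).presheaf.map (homOfLE htop).op))
    have hW'D : W' ≤ j ⁻¹ᵁ D.1 := hDW.ge
    have hkey : ∀ x, ψ (E x) = j.appLE D.1 W' hW'D x := by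
      intro x
      have h2 : ⊤ ≤ hW'.fromSpec ⁻¹ᵁ W' := by rw [hW'.fromSpec_preimage_self]
      have e1 : hW'.fromSpec.appLE W' ⊤ h2 = (Scheme.ΓSpecIso Γ(CohB1.ProjSpaceOver 1 Y, W')).inv := by
        rw [Scheme.Hom.appLE, hW'.fromSpec_app_self, Category.assoc, ← Functor.map_comp]
        exact (congrArg ((Scheme.ΓSpecIso _).inv ≫ ·) ((congrArg ((Spec _).presheaf.map)
          (Subsingleton.elim _ (𝟙 _))).trans ((Spec _).presheaf.map_id _))).trans (Category.comp_id _)
      have key : ∀ (q : Spec Γ(CohB1.ProjSpaceOver 1 Y, W') ⟶ M) (_ : q = hW'.fromSpec ≫ j) (h3 : ⊤ ≤ q ⁻¹ᵁ D.1),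
          q.appLE D.1 ⊤ h3 x = (Scheme.ΓSpecIso _).inv (j.appLE D.1 W' hW'D x) := by
        rintro q rfl h3
        rw [← Scheme.Hom.appLE_comp_appLE hW'.fromSpec j D.1 W' ⊤ hW'D h2, CommRingCat.comp_apply, e1]
      have h4 : ⊤ ≤ (Spec.map (CommRingCat.ofHom ψ) ≫ cM) ⁻¹ᵁ D.1 := fun w _ => ⟨_, rfl⟩
      have h5 := key _ heq.symm h4
      rw [← Scheme.Hom.appLE_comp_appLE (Spec.map (CommRingCat.ofHom ψ)) cM D.1 ⊤ ⊤ htop (by simp)] at h5
      have h6 : (Spec.map (CommRingCat.ofHom ψ)).appLE ⊤ ⊤ (by simp) =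
          (Spec.map (CommRingCat.ofHom ψ)).appTop := by simp [Scheme.Hom.appLE, Scheme.Hom.appTop]
      rw [h6, CommRingCat.comp_apply] at h5
      have h7 := congrArg (Scheme.ΓSpecIso (CommRingCat.of R')).hom h5
      have h8 := DFunLike.congr_fun (congrArg CommRingCat.Hom.hom
        (Scheme.ΓSpecIso_naturality (CommRingCat.ofHom ψ))) (cM.appLE D.1 ⊤ htop x)
      refine (h8.symm.trans h7).trans ?_
      exact DFunLike.congr_fun (congrArg CommRingCat.Hom.hom (Scheme.ΓSpecIso (CommRingCat.of R')).inv_hom_id) _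
    let e := RingEquiv.ofBijective E hE
    refine ⟨D, show z ∈ j ⁻¹ᵁ D.1 from hDW.ge hzW', List.ofFn fun m => e.symm (v m), by simp, ?_, ?_⟩
    · refine ⟨?_, ?_⟩
      · rw [congr_ringEquiv e, List.map_ofFn]
        have : (⇑e ∘ fun m => e.symm (v m)) = v := funext fun m => e.apply_symm_apply _
        rw [this]
        exact weaklyRegular_chart t F hreg J rfl v hv
      · rw [smul_eq_mul, Ideal.mul_top, ofList_ofFn]
        intro htop'
        haveI := hnontriv a hzW'
        refine one_ne_zero (α := R') ?_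
        have h1 : (1 : Γ(M, D.1)) ∈ RingHom.ker (ψ.comp E) :=
          (Ideal.span_le (I := RingHom.ker (ψ.comp E))).2 (by
            rintro _ ⟨m, rfl⟩
            show ψ (e (e.symm (v m))) = 0
            rw [RingEquiv.apply_symm_apply, hψv]) (htop' ▸ Submodule.mem_top)
        simpa using h1
    · rw [ofList_ofFn]
      have hmap : RingHom.ker (j.app D.1).hom = (RingHom.ker ψ).comap E := by
        ext x
        rw [Ideal.mem_comap, RingHom.mem_ker, RingHom.mem_ker, hkey, Scheme.Hom.appLE, CommRingCat.comp_apply]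
        haveI : IsIso ((CohB1.ProjSpaceOver 1 Y).presheaf.map (homOfLE hW'D).op) := by
          rw [show (homOfLE hW'D) = eqToHom hDW.symm from Subsingleton.elim _ _, eqToHom_op]
          infer_instance
        exact (map_eq_zero_iff _ (ConcreteCategory.bijective_of_isIso
          ((CohB1.ProjSpaceOver 1 Y).presheaf.map (homOfLE hW'D).op)).1).symm
      rw [hmap, hkψ]
      show Ideal.comap e (Ideal.span (Set.range v)) = _
      rw [← Ideal.map_symm, Ideal.map_span, ← Set.range_comp]
      rfl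
  · -- away from infinity
    let a : Fin (1 + 1) := 0
    have hz0 : z ∈ CycP1Lib.chartOpen Y a := (CycP1Lib.mem_or Y z (1 : Fin (1 + 1))).resolve_left hz
    let W := pc X U a
    let W' := pc Y (i ⁻¹ᵁ U) a
    have hW : IsAffineOpen W := isAffineOpen_pc X hU a
    have hzW' : z ∈ W' := hzP a hz0
    have hWc : W ≤ (i ≫ P1.sect X 1).ker.support.compl := by
      intro p hp hp'
      change p ∈ ((i ≫ P1.sect X 1).ker.support : Set _) at hp'
      rw [Scheme.Hom.support_ker] at hp'
      change p ∈ closure (Set.range (i ≫ P1.sect X 1)) at hp'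
      have hcl := (IsClosedImmersion.base_closed (f := i ≫ P1.sect X 1)).isClosed_range
      rw [hcl.closure_eq] at hp'
      obtain ⟨y, rfl⟩ := hp'
      have : P1.sect X 1 (i y) ∈ Set.range (P1.sect X 1) := ⟨_, rfl⟩
      rw [CycP1Lib.range_sect] at this
      exact this hp.1
    haveI : IsIso (b ∣_ W) := EffCartLib.isIso_off_center _ b hb W hWc
    have hD : IsAffineOpen (b ⁻¹ᵁ W) := by
      haveI : IsAffine W.toScheme := hW
      exact IsAffine.of_isIso (b ∣_ W)
    have hjW : j ⁻¹ᵁ (b ⁻¹ᵁ W) = W' := by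
      rw [← Scheme.Hom.comp_preimage, hj]
      exact preimage_pc i U a
    haveI : IsIso (b.app W) := by
      have h1 : IsIso (b.app (W.ι ''ᵁ ⊤)) := by
        haveI : IsIso (b.app (W.ι ''ᵁ ⊤) ≫
            M.presheaf.map (eqToHom (image_morphismRestrict_preimage b W ⊤)).op) := by
          rw [← morphismRestrict_appTop]; infer_instance
        exact IsIso.of_isIso_comp_right _ (M.presheaf.map (eqToHom (image_morphismRestrict_preimage b W ⊤)).op)
      have h2 : W.ι ''ᵁ ⊤ = W := Scheme.Opens.ι_image_top _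
      rwa [h2] at h1
    let e := RingEquiv.ofBijective (b.app W).hom (ConcreteCategory.bijective_of_isIso (b.app W))
    let ee := RingEquiv.ofBijective _ (ev_bijective X hU a)
    refine ⟨⟨b ⁻¹ᵁ W, hD⟩, show z ∈ j ⁻¹ᵁ (b ⁻¹ᵁ W) from hjW.ge hzW',
      List.ofFn fun m => e (ee (Polynomial.C (f m))), by simp, ?_, ?_⟩
    · have hkerj : ∀ x, j.app (b ⁻¹ᵁ W) (e x) = 0 ↔ g.appLE W W' (preimage_pc i U a).ge x = 0 := by
        intro x
        have : ∀ (q : CohB1.ProjSpaceOver 1 Y ⟶ CohB1.ProjSpaceOver 1 X) (_ : q = j ≫ b) (h : W' ≤ q ⁻¹ᵁ W),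
            q.appLE W W' h x = j.appLE (b ⁻¹ᵁ W) W' hjW.ge (b.app W x) := by
          rintro q rfl h
          rw [Scheme.Hom.app_eq_appLE, ← CommRingCat.comp_apply, Scheme.Hom.appLE_comp_appLE]
        rw [this g hj.symm, Scheme.Hom.appLE, CommRingCat.comp_apply]
        haveI : IsIso ((CohB1.ProjSpaceOver 1 Y).presheaf.map (homOfLE hjW.ge).op) := by
          rw [show (homOfLE hjW.ge) = eqToHom hjW.symm from Subsingleton.elim _ _, eqToHom_op]
          infer_instance
        exact (map_eq_zero_iff _ (ConcreteCategory.bijective_of_isIso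
          ((CohB1.ProjSpaceOver 1 Y).presheaf.map (homOfLE hjW.ge).op)).1).symm
      refine ⟨?_, ?_⟩
      · have h1 := ((isWeaklyRegular_append_iff _ _ _).1 (poly_regular f hrs.toIsWeaklyRegular)).1
        rw [congr_ringEquiv (ee.trans e), List.map_ofFn] at h1
        exact h1
      · rw [smul_eq_mul, Ideal.mul_top, ofList_ofFn]
        intro htop'
        haveI := hnontriv a hzW'
        refine one_ne_zero (α := Γ(CohB1.ProjSpaceOver 1 Y, W')) ?_
        have h1 : (1 : Γ(M, b ⁻¹ᵁ W)) ∈ RingHom.ker (j.appLE (b ⁻¹ᵁ W) W' hjW.ge).hom :=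
          (Ideal.span_le (I := RingHom.ker (j.appLE (b ⁻¹ᵁ W) W' hjW.ge).hom)).2 (by
            rintro _ ⟨m, rfl⟩
            rw [SetLike.mem_coe, RingHom.mem_ker, Scheme.Hom.appLE, CommRingCat.comp_apply,
              show (j.app (b ⁻¹ᵁ W)) (e (ee (Polynomial.C (f m)))) = 0 from (hkerj _).2 (RingHom.mem_ker.1 ((hfgen a _).ge (Ideal.subset_span ⟨m, rfl⟩))), map_zero])
            (htop' ▸ Submodule.mem_top)
        simpa using h1
    · rw [ofList_ofFn]
      ext x
      obtain ⟨y, rfl⟩ := e.surjective x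
      rw [RingHom.mem_ker]
      have hk : j.app (b ⁻¹ᵁ W) (e y) = 0 ↔ y ∈ Ideal.span (Set.range fun m => ee (Polynomial.C (f m))) := by
        have : ∀ (q : CohB1.ProjSpaceOver 1 Y ⟶ CohB1.ProjSpaceOver 1 X) (_ : q = j ≫ b) (h : W' ≤ q ⁻¹ᵁ W),
            q.appLE W W' h y = j.appLE (b ⁻¹ᵁ W) W' hjW.ge (b.app W y) := by
          rintro q rfl h
          rw [Scheme.Hom.app_eq_appLE, ← CommRingCat.comp_apply, Scheme.Hom.appLE_comp_appLE]
        have h2 : g.appLE W W' (preimage_pc i U a).ge y = 0 ↔ _ :=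
          SetLike.ext_iff.1 (hfgen a (preimage_pc i U a).ge) y
        refine Iff.trans ?_ h2
        rw [this g hj.symm, Scheme.Hom.appLE, CommRingCat.comp_apply]
        haveI : IsIso ((CohB1.ProjSpaceOver 1 Y).presheaf.map (homOfLE hjW.ge).op) := by
          rw [show (homOfLE hjW.ge) = eqToHom hjW.symm from Subsingleton.elim _ _, eqToHom_op]
          infer_instance
        exact (map_eq_zero_iff _ (ConcreteCategory.bijective_of_isIso
          ((CohB1.ProjSpaceOver 1 Y).presheaf.map (homOfLE hjW.ge).op)).1).symm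
      rw [hk]
      have : Ideal.span (Set.range fun m => e (ee (Polynomial.C (f m)))) =
          (Ideal.span (Set.range fun m => ee (Polynomial.C (f m)))).map e := by
        rw [Ideal.map_span, ← Set.range_comp]
        rfl
      rw [this, Ideal.mem_map_of_equiv]
      exact ⟨fun h => ⟨y, h, rfl⟩, fun ⟨w, hw, hwy⟩ => e.injective hwy ▸ hw⟩

theorem isClosedImmersion_toP1 [IsClosedImmersion i] : IsClosedImmersion (P1.toP1 i) := by
  have hsq : IsPullback (P1.toP1 i) (CohB1.ProjSpaceOver.toBase 1 Y) (CohB1.ProjSpaceOver.toBase 1 X) i := by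
    refine IsPullback.of_right ?_ (toP1_toBase i)
      (IsPullback.of_hasPullback (CohB1.ProjSpace.toSpec 1 (ULift.{u} ℤ)) (specULiftZIsTerminal.from X))
    rw [show P1.toP1 i ≫ pullback.fst _ _ = toPZ 1 Y from toP1_toPZ i,
      specULiftZIsTerminal.hom_ext (i ≫ specULiftZIsTerminal.from X) (specULiftZIsTerminal.from Y)]
    exact IsPullback.of_hasPullback _ _
  exact MorphismProperty.of_isPullback hsq.flip inferInstance

end DefoRegLib

end
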