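import Groth.Agent.DefoRegLib.Alg
import Mathlib.Data.List.FinRange

/-!
# Weakly regular prefixes in a chart of a blowing up

If `f, L` is weakly regular and `t, h` is a rearrangement of `L`, then the fractions `f / t` form a
weakly regular sequence of the `t`-chart of the blowing up in `(t, f, h)`, and cut out the chart of the
quotient by `f`.
-/

set_option autoImplicit false
set_option maxHeartbeats 1000000
set_option backward.isDefEq.respectTransparency false
set_option backward.isDefEq.respectTransparency.types false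
set_option linter.style.haveILetI false

universe u

open KoszDetLib MvPolynomial RingTheory.Sequence

namespace DefoRegLib

theorem exists_equiv_of_perm {α : Type u} {l l' : List α} (h : l.Perm l') :
    ∃ e : Fin l'.length ≃ Fin l.length, ∀ i, l.get (e i) = l'.get i := by
  induction h with
  | nil => exact ⟨Equiv.refl _, fun i => rfl⟩
  | cons x _ ih =>
    obtain ⟨e, he⟩ := ih
    refine ⟨(finSuccEquiv _).trans (e.optionCongr.trans (finSuccEquiv _).symm), fun i => ?_⟩
    induction i using Fin.cases with
    | zero => simp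
    | succ i => simp only [Equiv.trans_apply, finSuccEquiv_succ]; exact he i
  | swap x y l =>
    refine ⟨Equiv.swap (0 : Fin (l.length + 1 + 1)) 1, fun (i : Fin (l.length + 1 + 1)) => ?_⟩
    induction i using Fin.cases with
    | zero => erw [Equiv.swap_apply_left]; rfl
    | succ i =>
      induction i using Fin.cases with
      | zero => erw [Equiv.swap_apply_right]; rfl
      | succ i =>
        erw [Equiv.swap_apply_of_ne_of_ne (Fin.succ_ne_zero _)
          (fun e => Fin.succ_ne_zero i (Fin.succ_injective _ e))]
        rfl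
  | trans _ _ ih₁ ih₂ =>
    obtain ⟨e₁, he₁⟩ := ih₁
    obtain ⟨e₂, he₂⟩ := ih₂
    exact ⟨e₂.trans e₁, fun i => (he₁ _).trans (he₂ i)⟩

variable {c d : ℕ} {R : Type u} [CommRing R]

/-- The hypothesis on the generators of the centre. -/
def Good (t : R) (f : Fin c → R) (h : Fin d → R) : Prop :=
  ∃ L : List R, IsWeaklyRegular R (List.ofFn f ++ L) ∧ (t :: List.ofFn h).Perm L

theorem Good.exactK {t : R} {f : Fin c → R} {h : Fin d → R} (hg : Good t f h) :
    IsExactK (Fin.cons t (Fin.append f h) : Fin (c + d + 1) → R) := by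
  obtain ⟨L, hL, hp⟩ := hg
  have hperm : (List.ofFn f ++ L).Perm (List.ofFn (Fin.cons t (Fin.append f h) : Fin (c + d + 1) → R)) := by
    rw [List.ofFn_succ]
    simp only [Fin.cons_zero, Fin.cons_succ]
    rw [List.ofFn_fin_append]
    exact ((List.Perm.append_left _ hp.symm).trans List.perm_middle)
  obtain ⟨e, he⟩ := exists_equiv_of_perm hperm
  refine KRLib.isExactK_cast (KRLib.isExactK_comp_equiv (KRLib.isExactK_of_isWeaklyRegular _ hL) e)
    (List.length_ofFn) fun i => ?_
  refine Eq.trans ?_ (he i).symm
  rw [List.get_ofFn]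

theorem presentation₂ {t : R} {f : Fin c → R} {h : Fin d → R} (hg : Good t f h) (J : Ideal R)
    (hJ : J = Ideal.span (Set.range (Fin.cons t (Fin.append f h) : Fin (c + d + 1) → R)))
    (v : Fin (c + d) → BlowUp.affineAlgebra R J t)
    (hv : ∀ m, v m * algebraMap R _ t = algebraMap R _ (Fin.append f h m)) :
    Function.Surjective (aeval (R := R) v) ∧
      RingHom.ker (aeval (R := R) v).toRingHom =
        Ideal.span (Set.range fun m => C t * X m - C (Fin.append f h m)) := by
  obtain ⟨h1, h2⟩ := BlowProjLib.presentation_first (Fin.cons t (Fin.append f h) : Fin (c + d + 1) → R)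
    hg.exactK J hJ t rfl v (fun m => by rw [Fin.cons_succ]; exact hv m)
  refine ⟨h1, h2.trans ?_⟩
  congr 2

theorem Good.map {t : R} {f : Fin (c + 1) → R} {h : Fin d → R} (hg : Good t f h) :
    IsSMulRegular R (f 0) ∧ Good (Ideal.Quotient.mk (Ideal.span {f 0}) t)
      (fun m => Ideal.Quotient.mk (Ideal.span {f 0}) (f m.succ))
      (fun m => Ideal.Quotient.mk (Ideal.span {f 0}) (h m)) := by
  obtain ⟨L, hL, hp⟩ := hg
  rw [List.ofFn_succ, List.cons_append, GorLib.isWeaklyRegular_cons_ring, List.map_append, List.map_ofFn] at hL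
  refine ⟨hL.1, _, hL.2, ?_⟩
  have := hp.map (Ideal.Quotient.mk (Ideal.span {f 0}))
  rw [List.map_cons, List.map_ofFn] at this
  exact this

/-- The map to the chart of the quotient: surjective, with kernel generated by the fractions `f / t`. -/
theorem ker_chartMap {t : R} {f : Fin c → R} {h : Fin d → R} (hg : Good t f h) (J : Ideal R)
    (hJ : J = Ideal.span (Set.range (Fin.cons t (Fin.append f h) : Fin (c + d + 1) → R)))
    (v : Fin (c + d) → BlowUp.affineAlgebra R J t)
    (hv : ∀ m, v m * algebraMap R _ t = algebraMap R _ (Fin.append f h m))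
    {R' : Type u} [CommRing R'] (π : R →+* R') (hπ : Function.Surjective π)
    (hker : RingHom.ker π = Ideal.span (Set.range f)) (hg' : Good (π t) (Fin.elim0 : Fin 0 → R') (π ∘ h))
    (J' : Ideal R') (hJ' : J' = Ideal.span (Set.range
      (Fin.cons (π t) (Fin.append (Fin.elim0 : Fin 0 → R') (π ∘ h)) : Fin (0 + d + 1) → R')))
    (ψ : BlowUp.affineAlgebra R J t →+* BlowUp.affineAlgebra R' J' (π t))
    (hψ : ∀ r, ψ (algebraMap R _ r) = algebraMap R' _ (π r)) :
    Function.Surjective ψ ∧ RingHom.ker ψ = Ideal.span (Set.range fun i : Fin c => v (Fin.castAdd d i)) := by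
  classical
  obtain ⟨hsurj, -⟩ := presentation₂ hg J hJ v hv
  let C' := BlowUp.affineAlgebra R J t
  let C'' := BlowUp.affineAlgebra R' J' (π t)
  let K : Ideal C' := Ideal.span (Set.range fun i : Fin c => v (Fin.castAdd d i))
  have hnz : algebraMap R' C'' (π t) ∈ nonZeroDivisors C'' := BlowProjLib.nzd_affineAlgebra J' (π t)
  have hψv : ∀ m, ψ (v m) * algebraMap R' C'' (π t) = algebraMap R' C'' (π (Fin.append f h m)) := fun m => by
    rw [← hψ, ← map_mul, hv, hψ]
  have hψf : ∀ i, ψ (v (Fin.castAdd d i)) = 0 := fun i => by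
    refine mem_nonZeroDivisors_iff_right.mp hnz _ ((hψv _).trans ?_)
    rw [Fin.append_left, RingHom.mem_ker.1 (hker.ge (Ideal.subset_span ⟨i, rfl⟩)), map_zero]
  let w : Fin (0 + d) → C'' := fun m => ψ (v (Fin.natAdd c (Fin.cast (Nat.zero_add d) m)))
  have hw : ∀ m, w m * algebraMap R' C'' (π t) =
      algebraMap R' C'' (Fin.append (Fin.elim0 : Fin 0 → R') (π ∘ h) m) := fun m => by
    refine (hψv _).trans ?_
    congr 1
    rw [Fin.append_right]
    induction m using Fin.addCases with
    | left i => exact i.elim0
    | right i =>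
      rw [Fin.append_right]
      exact congrArg (π ∘ h) (Fin.ext (by simp))
  obtain ⟨hsurj', hker'⟩ := presentation₂ hg' J' hJ' w hw
  have hs : Function.Surjective ψ := by
    intro y
    obtain ⟨p, rfl⟩ := hsurj' y
    induction p using MvPolynomial.induction_on with
    | C r =>
      obtain ⟨r, rfl⟩ := hπ r
      exact ⟨algebraMap R C' r, by rw [hψ, aeval_C]⟩
    | add p q hp hq =>
      obtain ⟨x, hx⟩ := hp
      obtain ⟨y, hy⟩ := hq
      exact ⟨x + y, by rw [map_add, map_add, hx, hy]⟩
    | mul_X p m hp =>
      obtain ⟨x, hx⟩ := hp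
      exact ⟨x * v (Fin.natAdd c (Fin.cast (Nat.zero_add d) m)), by rw [map_mul ψ, hx, map_mul, aeval_X]⟩
  refine ⟨hs, le_antisymm (fun x hx => ?_) (Ideal.span_le.2 (by rintro _ ⟨i, rfl⟩; exact hψf i))⟩
  -- a left inverse modulo `K`
  let q := Ideal.Quotient.mk K
  have hqv : ∀ i, q (v (Fin.castAdd d i)) = 0 := fun i =>
    Ideal.Quotient.eq_zero_iff_mem.2 (Ideal.subset_span ⟨i, rfl⟩)
  have hqker : RingHom.ker π ≤ RingHom.ker (q.comp (algebraMap R C')) := by
    rw [hker, Ideal.span_le]
    rintro _ ⟨i, rfl⟩
    show q (algebraMap R C' (f i)) = 0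
    have e := hv (Fin.castAdd d i)
    rw [Fin.append_left] at e
    rw [← e, map_mul, hqv, zero_mul]
  let ρq : R' →+* C' ⧸ K := π.liftOfSurjective hπ ⟨q.comp (algebraMap R C'), hqker⟩
  have hρq : ∀ r, ρq (π r) = q (algebraMap R C' r) := fun r => RingHom.liftOfRightInverse_comp_apply _ _ _ _ r
  let θ' : MvPolynomial (Fin (0 + d)) R' →+* C' ⧸ K :=
    eval₂Hom ρq fun m => q (v (Fin.natAdd c (Fin.cast (Nat.zero_add d) m)))
  have hθC : ∀ r, θ' (C r) = ρq r := fun r => eval₂Hom_C _ _ _
  have hθX : ∀ m, θ' (X m) = q (v (Fin.natAdd c (Fin.cast (Nat.zero_add d) m))) := fun m => eval₂Hom_X' _ _ _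
  have hθ : RingHom.ker (aeval (R := R') w).toRingHom ≤ RingHom.ker θ' := by
    rw [hker', Ideal.span_le]
    rintro _ ⟨m, rfl⟩
    show θ' _ = 0
    rw [map_sub, map_mul, hθC, hθX, hθC]
    have e : Fin.append (Fin.elim0 : Fin 0 → R') (π ∘ h) m =
        π (h (Fin.cast (Nat.zero_add d) m)) := by
      induction m using Fin.addCases with
      | left i => exact i.elim0
      | right i => rw [Fin.append_right]; exact congrArg (π ∘ h) (Fin.ext (by simp))
    rw [e, hρq, hρq, ← map_mul, sub_eq_zero, mul_comm, hv, Fin.append_right]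
  let χ : C'' →+* C' ⧸ K := (aeval (R := R') w).toRingHom.liftOfSurjective hsurj' ⟨θ', hθ⟩
  have hχ : ∀ p, χ (aeval (R := R') w p) = θ' p := fun p => RingHom.liftOfRightInverse_comp_apply _ _ _ _ p
  have hid : (χ.comp ψ).comp (aeval (R := R) v).toRingHom = q.comp (aeval (R := R) v).toRingHom := by
    refine MvPolynomial.ringHom_ext (fun r => ?_) fun m => ?_
    · show χ (ψ (aeval (R := R) v (C r))) = q (aeval (R := R) v (C r))
      rw [aeval_C, hψ, ← aeval_C (R := R') w, hχ, hθC, hρq]
    · show χ (ψ (aeval (R := R) v (X m))) = q (aeval (R := R) v (X m))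
      rw [aeval_X]
      induction m using Fin.addCases with
      | left i => rw [hψf, map_zero, hqv]
      | right i =>
        have e1 : ψ (v (Fin.natAdd c i)) = aeval (R := R') w (X (Fin.cast (Nat.zero_add d).symm i)) := by
          rw [aeval_X]
          exact congrArg (fun j => ψ (v (Fin.natAdd c j))) (Fin.ext (by simp))
        rw [e1, hχ, hθX]
        exact congrArg (fun j => q (v (Fin.natAdd c j))) (Fin.ext (by simp))
  obtain ⟨p, rfl⟩ := hsurj x
  have := RingHom.congr_fun hid p
  rw [← Ideal.Quotient.eq_zero_iff_mem]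
  refine this.symm.trans ?_
  show χ (ψ (aeval (R := R) v p)) = 0
  rw [RingHom.mem_ker.1 hx, map_zero]

theorem weaklyRegular_prefix : ∀ {c d : ℕ} {R : Type u} [CommRing R] {t : R} {f : Fin c → R} {h : Fin d → R}
    (_ : Good t f h) (J : Ideal R)
    (_ : J = Ideal.span (Set.range (Fin.cons t (Fin.append f h) : Fin (c + d + 1) → R)))
    (v : Fin (c + d) → BlowUp.affineAlgebra R J t)
    (_ : ∀ m, v m * algebraMap R _ t = algebraMap R _ (Fin.append f h m)),
    IsWeaklyRegular (BlowUp.affineAlgebra R J t) (List.ofFn fun i : Fin c => v (Fin.castAdd d i))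
  | 0, d, R, _, t, f, h, _, J, _, v, _ => by
    rw [List.ofFn_zero]
    exact IsWeaklyRegular.nil _ _
  | c + 1, d, R, _, t, f, h, hg, J, hJ, v, hv => by
    classical
    obtain ⟨hf0, hg1⟩ := hg.map
    rw [List.ofFn_succ, GorLib.isWeaklyRegular_cons_ring]
    let C' := BlowUp.affineAlgebra R J t
    refine ⟨?_, ?_⟩
    · refine (isSMulRegular_iff_right_eq_zero_of_smul (M := C')).2 fun x hx => ?_
      rw [smul_eq_mul] at hx
      have h1 : algebraMap R C' (f 0) * x = 0 := by
        have e := hv (Fin.castAdd d 0)
        rw [Fin.append_left] at e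
        rw [← e, mul_right_comm, hx, zero_mul]
      have hnz : algebraMap R (Localization.Away t) (f 0) ∈ nonZeroDivisors (Localization.Away t) := by
        haveI : Module.Flat R (Localization.Away t) := IsLocalization.flat _ (Submonoid.powers t)
        rw [mem_nonZeroDivisors_iff_right]
        intro y hy
        have h3 : IsWeaklyRegular (Localization.Away t) [algebraMap R (Localization.Away t) (f 0)] := by
          simpa using IsWeaklyRegular.of_flat (S := Localization.Away t) ((isWeaklyRegular_singleton_iff R (f 0)).2 hf0)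
        rw [isWeaklyRegular_singleton_iff] at h3
        exact isSMulRegular_iff_right_eq_zero_of_smul.1 h3 y (by rw [smul_eq_mul, mul_comm]; exact hy)
      refine Subtype.ext (mem_nonZeroDivisors_iff_right.mp hnz _ ?_)
      rw [mul_comm]
      exact congrArg Subtype.val h1
    -- split off the first element
    let σ := Ideal.Quotient.mk (Ideal.span {f 0})
    let f₁ : Fin 1 → R := fun _ => f 0
    let h₁ : Fin (c + d) → R := Fin.append (fun m => f m.succ) h
    obtain ⟨L, hL, hp⟩ := hg
    have hgA : Good t f₁ h₁ := by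
      refine ⟨(List.ofFn fun m : Fin c => f m.succ) ++ L, ?_, ?_⟩
      · rw [List.ofFn_succ, List.cons_append] at hL
        simpa [f₁, List.ofFn_succ] using hL
      · rw [List.ofFn_fin_append]
        exact List.perm_middle.symm.trans (List.Perm.append_left _ hp)
    let J' : Ideal (R ⧸ Ideal.span {f 0}) := Ideal.span (Set.range
      (Fin.cons (σ t) (Fin.append (Fin.elim0 : Fin 0 → R ⧸ Ideal.span {f 0}) (σ ∘ h₁)) :
        Fin (0 + (c + d) + 1) → R ⧸ Ideal.span {f 0}))
    have hgA' : Good (σ t) (Fin.elim0 : Fin 0 → R ⧸ Ideal.span {f 0}) (σ ∘ h₁) := by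
      obtain ⟨L', hL', hp'⟩ := hg1
      refine ⟨(List.ofFn fun m : Fin c => σ (f m.succ)) ++ L', ?_, ?_⟩
      · simpa using hL'
      · have : (σ ∘ h₁) = Fin.append (fun m => σ (f m.succ)) (fun m => σ (h m)) := by
          funext m
          induction m using Fin.addCases with
          | left i => simp [h₁]
          | right i => simp [h₁]
        rw [this, List.ofFn_fin_append]
        exact List.perm_middle.symm.trans (List.Perm.append_left _ hp')
    -- indices
    have hidx : c + 1 + d = 1 + (c + d) := by omega
    let v₁ : Fin (1 + (c + d)) → C' := fun m => v (Fin.cast hidx.symm m)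
    have happ : ∀ m, Fin.append f h (Fin.cast hidx.symm m) = Fin.append f₁ h₁ m := by
      intro m
      induction m using Fin.addCases with
      | left i =>
        obtain rfl : i = 0 := Subsingleton.elim _ _
        rw [Fin.append_left, show Fin.cast hidx.symm (Fin.castAdd (c + d) (0 : Fin 1)) = Fin.castAdd d 0 from
          Fin.ext rfl, Fin.append_left]
      | right i =>
        rw [Fin.append_right]
        induction i using Fin.addCases with
        | left i =>
          rw [show h₁ (Fin.castAdd d i) = f i.succ from Fin.append_left _ _ _,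
            show Fin.cast hidx.symm (Fin.natAdd 1 (Fin.castAdd d i)) = Fin.castAdd d i.succ from
              Fin.ext (by simp; omega), Fin.append_left]
        | right i =>
          rw [show h₁ (Fin.natAdd c i) = h i from Fin.append_right _ _ _,
            show Fin.cast hidx.symm (Fin.natAdd 1 (Fin.natAdd c i)) = Fin.natAdd (c + 1) i from
              Fin.ext (by simp; omega), Fin.append_right]
    have hJA : J = Ideal.span (Set.range (Fin.cons t (Fin.append f₁ h₁) : Fin (1 + (c + d) + 1) → R)) := by
      rw [hJ, Fin.range_cons, Fin.range_cons, ← funext happ]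
      congr 2
      exact ((finCongr hidx.symm).surjective.range_comp _).symm
    have hkerσ : RingHom.ker σ = Ideal.span (Set.range f₁) := by
      rw [Ideal.mk_ker, Set.range_const]
    have hJ'mem : σ t ∈ J' := Ideal.subset_span ⟨0, Fin.cons_zero _ _⟩
    have hch := BlowUpLib.isChart_affineAlgebra hJ'mem
    have hmap : J.map σ = J' := by
      rw [hJA, Ideal.map_span, ← Set.range_comp,
        show ((σ : R → _) ∘ (Fin.cons t (Fin.append f₁ h₁) : Fin (1 + (c + d) + 1) → R)) =
          Fin.cons (σ t) (σ ∘ Fin.append f₁ h₁) from Fin.comp_cons _ _ _]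
      show _ = Ideal.span _
      rw [Fin.range_cons, Fin.range_cons]
      refine le_antisymm (Ideal.span_le.2 ?_) (Ideal.span_le.2 ?_)
      · rintro x (rfl | ⟨m, rfl⟩)
        · exact Ideal.subset_span (Set.mem_insert _ _)
        · induction m using Fin.addCases with
          | left i =>
            rw [Function.comp_apply, Fin.append_left, show σ (f₁ i) = 0 from
              Ideal.Quotient.eq_zero_iff_mem.2 (Ideal.mem_span_singleton_self _)]
            exact Ideal.zero_mem _
          | right i =>
            rw [Function.comp_apply, Fin.append_right]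
            exact Ideal.subset_span (Set.mem_insert_of_mem _ ⟨Fin.natAdd 0 i, by simp⟩)
      · rintro x (rfl | ⟨m, rfl⟩)
        · exact Ideal.subset_span (Set.mem_insert _ _)
        · induction m using Fin.addCases with
          | left i => exact i.elim0
          | right i =>
            rw [Fin.append_right]
            exact Ideal.subset_span (Set.mem_insert_of_mem _ ⟨Fin.natAdd 1 i, by simp⟩)
    let C'' := BlowUp.affineAlgebra (R ⧸ Ideal.span {f 0}) J' (σ t)
    obtain ⟨ψ, hψ, -⟩ := (BlowUpLib.isChart_affineAlgebra (I := J) (a := t)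
      (hJ ▸ Ideal.subset_span ⟨0, Fin.cons_zero _ _⟩)).lift C'' ((algebraMap _ C'').comp σ)
      (BlowProjLib.nzd_affineAlgebra J' (σ t)) (by rw [← Ideal.map_map, hmap]; exact hch.span)
    have hψ' : ∀ r, ψ (algebraMap R C' r) = algebraMap _ C'' (σ r) := RingHom.congr_fun hψ
    obtain ⟨hψs, hψk⟩ := ker_chartMap hgA J hJA v₁ (fun m => by rw [← happ]; exact hv _) σ
      Ideal.Quotient.mk_surjective hkerσ hgA' J' rfl ψ hψ'
    have hv0 : Ideal.span {v (Fin.castAdd d (0 : Fin (c + 1)))} = RingHom.ker ψ := by
      rw [hψk, show (fun i : Fin 1 => v₁ (Fin.castAdd (c + d) i)) = fun _ => v (Fin.castAdd d 0) from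
        funext fun i => congrArg v (Fin.ext (by simp)), Set.range_const]
    let e : (C' ⧸ Ideal.span {v (Fin.castAdd d (0 : Fin (c + 1)))}) ≃+* C'' :=
      (Ideal.quotEquivOfEq hv0).trans (RingHom.quotientKerEquivOfSurjective hψs)
    rw [congr_ringEquiv e, List.map_ofFn, List.map_ofFn]
    -- the induction hypothesis over the quotient
    let w : Fin (c + d) → C'' := fun m => ψ (v₁ (Fin.natAdd 1 m))
    have hw : ∀ m, w m * algebraMap _ C'' (σ t) =
        algebraMap _ C'' (Fin.append (fun m => σ (f m.succ)) (fun m => σ (h m)) m) := fun m => by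
      rw [← hψ', ← map_mul]
      show ψ (v₁ _ * _) = _
      rw [show v₁ (Fin.natAdd 1 m) * algebraMap R C' t = algebraMap R C' (h₁ m) from
        (hv _).trans (congrArg (algebraMap R C') ((happ _).trans (Fin.append_right _ _ _))), hψ']
      congr 1
      induction m using Fin.addCases with
      | left i => simp [h₁]
      | right i => simp [h₁]
    have hJ'' : J' = Ideal.span (Set.range (Fin.cons (σ t) (Fin.append (fun m => σ (f m.succ))
        (fun m => σ (h m))) : Fin (c + d + 1) → R ⧸ Ideal.span {f 0})) := by
      show Ideal.span _ = _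
      rw [Fin.range_cons, Fin.range_cons]
      congr 2
      ext x
      constructor
      · rintro ⟨m, rfl⟩
        induction m using Fin.addCases with
        | left i => exact i.elim0
        | right i =>
          refine ⟨i, ?_⟩
          rw [Fin.append_right]
          induction i using Fin.addCases with
          | left j => simp [h₁]
          | right j => simp [h₁]
      · rintro ⟨m, rfl⟩
        refine ⟨Fin.natAdd 0 m, ?_⟩
        rw [Fin.append_right]
        induction m using Fin.addCases with
        | left j => simp [h₁]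
        | right j => simp [h₁]
    have ih := weaklyRegular_prefix hg1 J' hJ'' w hw
    refine (Eq.mp ?_ ih)
    congr 1
    congr 1
    funext i
    exact congrArg (fun j => ψ (v j)) (Fin.ext (by simp; omega))

end DefoRegLib
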