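import Groth.Agent.DefoRegLib.Main
import Groth.Agent.DefoRegLib.Prefix
import Groth.Agent.BlowProjLib.Glue
import Groth.Agent.BlowUpLib.Strict
import Groth.Agent.ModPairLib.Extra2

/-!
# The deformation spaces of a composite of regular immersions
-/

set_option autoImplicit false
set_option maxHeartbeats 1000000
set_option backward.isDefEq.respectTransparency false
set_option backward.isDefEq.respectTransparency.types false
set_option linter.style.haveILetI false

universe u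

open AlgebraicGeometry CategoryTheory CategoryTheory.Limits TopologicalSpace RingTheory.Sequence
open ChowLib

noncomputable section

namespace DefoRegLib

theorem appLE_ker_iff {X Y : Scheme.{u}} (f : Y ⟶ X) (U : X.Opens) (V : Y.Opens) (e : V ≤ f ⁻¹ᵁ U)
    (e' : f ⁻¹ᵁ U = V) (x : Γ(X, U)) : f.app U x = 0 ↔ f.appLE U V e x = 0 := by
  rw [Scheme.Hom.appLE, CommRingCat.comp_apply]
  haveI : IsIso (Y.presheaf.map (homOfLE e).op) := by
    rw [show (homOfLE e) = eqToHom e'.symm from Subsingleton.elim _ _, eqToHom_op]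
    infer_instance
  exact (map_eq_zero_iff _ (ConcreteCategory.bijective_of_isIso (Y.presheaf.map (homOfLE e).op)).1).symm

theorem weaklyRegular_res {X : Scheme.{u}} {U U' : X.Opens} (hU : IsAffineOpen U) (hU' : IsAffineOpen U')
    (h : U' ≤ U) {c : ℕ} (F : Fin c → Γ(X, U)) (hF : IsWeaklyRegular Γ(X, U) (List.ofFn F)) :
    IsWeaklyRegular Γ(X, U') (List.ofFn fun m => X.presheaf.map (homOfLE h).op (F m)) := by
  let ρ := (X.presheaf.map (homOfLE h).op).hom
  have hρ : ρ.Flat := by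
    have h0 := (𝟙 X : X ⟶ X).flat_appLE hU hU' h
    simp only [Scheme.Hom.appLE, Scheme.Hom.id_app] at h0
    exact h0
  letI := ρ.toAlgebra
  haveI : Module.Flat Γ(X, U) Γ(X, U') := hρ
  have := IsWeaklyRegular.of_flat (S := Γ(X, U')) hF
  rw [List.map_ofFn] at this
  exact this

theorem ker_res {X Z : Scheme.{u}} (k : Z ⟶ X) [IsClosedImmersion k] (U U' : X.affineOpens) (h : U'.1 ≤ U.1)
    {c : ℕ} (F : Fin c → Γ(X, U.1)) (hk : RingHom.ker (k.app U.1).hom = Ideal.span (Set.range F)) :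
    RingHom.ker (k.app U'.1).hom = Ideal.span (Set.range fun m => X.presheaf.map (homOfLE h).op (F m)) := by
  rw [← Scheme.Hom.ker_apply, ← Scheme.IdealSheafData.map_ideal k.ker (U := U') (V := U) h,
    Scheme.Hom.ker_apply, hk, Ideal.map_span, ← Set.range_comp]
  rfl

/-- The centre of the deformation in the chart at infinity. -/
theorem centre_ideal {X Z : Scheme.{u}} (k : Z ⟶ X) [IsClosedImmersion k] {U : X.Opens} (hU : IsAffineOpen U)
    {c : ℕ} (F : Fin c → Γ(X, U)) (hk : RingHom.ker (k.app U).hom = Ideal.span (Set.range F)) :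
    (k ≫ P1.sect X 1).ker.ideal ⟨pc X U 1, isAffineOpen_pc X hU 1⟩ =
      Ideal.span (Set.range (Fin.cons (ev X U 1 Polynomial.X) (fun m => ev X U 1 (Polynomial.C (F m))) :
        Fin (c + 1) → Γ(CohB1.ProjSpaceOver 1 X, pc X U 1))) := by
  rw [Scheme.Hom.ker_apply]
  have hpre' : (k ≫ P1.sect X 1) ⁻¹ᵁ pc X U 1 = k ⁻¹ᵁ U := by rw [Scheme.Hom.comp_preimage, sect_mem_pc]
  have hsU : U ≤ P1.sect X 1 ⁻¹ᵁ pc X U 1 := (sect_mem_pc U 1).ge
  have hev : ∀ p, (k ≫ P1.sect X 1).appLE (pc X U 1) (k ⁻¹ᵁ U) hpre'.ge (ev X U 1 p) = k.app U (p.eval 0) := by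
    intro p
    rw [← Scheme.Hom.appLE_comp_appLE k (P1.sect X 1) (pc X U 1) U (k ⁻¹ᵁ U) hsU le_rfl,
      CommRingCat.comp_apply, appLE_sect, ← Scheme.Hom.app_eq_appLE]
  have hmem : ∀ x, x ∈ RingHom.ker ((k ≫ P1.sect X 1).app (pc X U 1)).hom ↔
      (k ≫ P1.sect X 1).appLE (pc X U 1) (k ⁻¹ᵁ U) hpre'.ge x = 0 :=
    fun x => appLE_ker_iff _ _ _ _ hpre' x
  refine le_antisymm (fun x hx => ?_) ?_
  · obtain ⟨p, rfl⟩ := (ev_bijective X hU 1).2 x
    rw [hmem, hev, ← Polynomial.coeff_zero_eq_eval_zero] at hx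
    rw [← Polynomial.X_mul_divX_add p, map_add, map_mul]
    refine Ideal.add_mem _ (Ideal.mul_mem_right _ _ (Ideal.subset_span ⟨0, rfl⟩)) ?_
    have := Ideal.mem_map_of_mem ((ev X U 1).comp Polynomial.C) (hk.le hx)
    rw [Ideal.map_span, ← Set.range_comp] at this
    have hsub : Set.range (((ev X U 1).comp Polynomial.C) ∘ F) ⊆
        Set.range (Fin.cons (ev X U 1 Polynomial.X) (fun m => ev X U 1 (Polynomial.C (F m))) :
          Fin (c + 1) → Γ(CohB1.ProjSpaceOver 1 X, pc X U 1)) := by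
      rintro _ ⟨m, rfl⟩
      exact ⟨m.succ, Fin.cons_succ _ _ _⟩
    exact Ideal.span_mono hsub this
  · rw [Ideal.span_le]
    rintro _ ⟨m, rfl⟩
    rw [SetLike.mem_coe, hmem]
    induction m using Fin.cases with
    | zero => rw [Fin.cons_zero, hev, Polynomial.eval_X, map_zero]
    | succ m =>
      rw [Fin.cons_succ, hev, Polynomial.eval_C]
      exact RingHom.mem_ker.1 (hk.ge (Ideal.subset_span ⟨m, rfl⟩))

/-- The trace of the sub-line on a chart. -/
theorem ker_toP1_pc {X Y : Scheme.{u}} (i : Y ⟶ X) [IsClosedImmersion i] {U : X.Opens} (hU : IsAffineOpen U)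
    {c : ℕ} (f : Fin c → Γ(X, U)) (hker : RingHom.ker (i.app U).hom = Ideal.span (Set.range f))
    (a : Fin (1 + 1)) (h : pc Y (i ⁻¹ᵁ U) a ≤ P1.toP1 i ⁻¹ᵁ pc X U a) :
    RingHom.ker ((P1.toP1 i).appLE (pc X U a) (pc Y (i ⁻¹ᵁ U) a) h).hom =
      Ideal.span (Set.range fun m => ev X U a (Polynomial.C (f m))) := by
  refine le_antisymm (fun x hx => ?_) ?_
  · obtain ⟨p, rfl⟩ := (ev_bijective X hU a).2 x
    rw [RingHom.mem_ker] at hx
    have hx' := (appLE_ev i U a h p).symm.trans hx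
    rw [ker_ev_comp _ _ (ev_bijective Y (hU.preimage i) a).1, hker] at hx'
    have := Ideal.mem_map_of_mem (ev X U a) hx'
    rw [Ideal.map_map, Ideal.map_span, ← Set.range_comp] at this
    exact this
  · rw [Ideal.span_le]
    rintro _ ⟨m, rfl⟩
    rw [SetLike.mem_coe, RingHom.mem_ker]
    refine (appLE_ev i U a h _).trans ?_
    rw [Polynomial.map_C, show (i.app U).hom (f m) = 0 from
      RingHom.mem_ker.1 (hker.ge (Ideal.subset_span ⟨m, rfl⟩)), map_zero, map_zero]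

variable {P P' M M' : Scheme.{u}}

/-- Away from the centres nothing happens. -/
theorem off_centre {b : M ⟶ P} {𝓘 : P.IdealSheafData} (hb : BlowUp.IsBlowUp b 𝓘)
    {b' : M' ⟶ P'} {𝓘' : P'.IdealSheafData} (hb' : BlowUp.IsBlowUp b' 𝓘') (g : P' ⟶ P) (j : M' ⟶ M)
    (hj : j ≫ b = b' ≫ g) (W : P.Opens) (hW : IsAffineOpen W) (hWc : W ≤ 𝓘.support.compl)
    (W' : P'.Opens) (hpre : g ⁻¹ᵁ W = W') (hW'c : W' ≤ 𝓘'.support.compl)
    {c : ℕ} (F : Fin c → Γ(P, W)) (hF : IsWeaklyRegular Γ(P, W) (List.ofFn F))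
    (hker : RingHom.ker (g.appLE W W' hpre.ge).hom = Ideal.span (Set.range F))
    (m : M') (hm : b' m ∈ W') :
    ∃ D : M.affineOpens, j m ∈ D.1 ∧ ∃ rs : List Γ(M, D.1),
      RingTheory.Sequence.IsRegular Γ(M, D.1) rs ∧ RingHom.ker (j.app D.1).hom = Ideal.ofList rs := by
  haveI : IsIso (b ∣_ W) := EffCartLib.isIso_off_center _ b hb W hWc
  haveI : IsIso (b' ∣_ W') := EffCartLib.isIso_off_center _ b' hb' W' hW'c
  have hisoapp : ∀ {A B : Scheme.{u}} (q : A ⟶ B) (V : B.Opens) [IsIso (q ∣_ V)],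
      Function.Bijective (q.app V).hom := by
    intro A B q V _
    have h1 : IsIso (q.app (V.ι ''ᵁ ⊤)) := by
      haveI : IsIso (q.app (V.ι ''ᵁ ⊤) ≫
          A.presheaf.map (eqToHom (image_morphismRestrict_preimage q V ⊤)).op) := by
        rw [← morphismRestrict_appTop]; infer_instance
      exact IsIso.of_isIso_comp_right _ (A.presheaf.map (eqToHom (image_morphismRestrict_preimage q V ⊤)).op)
    have h2 : V.ι ''ᵁ ⊤ = V := Scheme.Opens.ι_image_top _
    rw [h2] at h1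
    exact ConcreteCategory.bijective_of_isIso (q.app V)
  have hD : IsAffineOpen (b ⁻¹ᵁ W) := by
    haveI : IsAffine W.toScheme := hW
    exact IsAffine.of_isIso (b ∣_ W)
  have hjW : j ⁻¹ᵁ (b ⁻¹ᵁ W) = b' ⁻¹ᵁ W' := by
    rw [← Scheme.Hom.comp_preimage, hj, Scheme.Hom.comp_preimage, hpre]
  let e := RingEquiv.ofBijective (b.app W).hom (hisoapp b W)
  have hk : ∀ x, j.app (b ⁻¹ᵁ W) (e x) = 0 ↔ x ∈ Ideal.span (Set.range F) := by
    intro x
    have hle : b' ⁻¹ᵁ W' ≤ j ⁻¹ᵁ (b ⁻¹ᵁ W) := hjW.ge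
    have key : ∀ (q : M' ⟶ P) (_ : q = j ≫ b) (h : b' ⁻¹ᵁ W' ≤ q ⁻¹ᵁ W),
        q.appLE W (b' ⁻¹ᵁ W') h x = j.appLE (b ⁻¹ᵁ W) (b' ⁻¹ᵁ W') hle (b.app W x) := by
      rintro q rfl h
      rw [Scheme.Hom.app_eq_appLE, ← CommRingCat.comp_apply, Scheme.Hom.appLE_comp_appLE]
    have key2 := key (b' ≫ g) hj.symm (by rw [Scheme.Hom.comp_preimage, hpre])
    rw [← Scheme.Hom.appLE_comp_appLE b' g W W' (b' ⁻¹ᵁ W') hpre.ge le_rfl, CommRingCat.comp_apply,
      ← Scheme.Hom.app_eq_appLE] at key2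
    rw [← hker, RingHom.mem_ker]
    refine Iff.trans (appLE_ker_iff j _ _ hle hjW _) ?_
    show j.appLE _ _ hle (b.app W x) = 0 ↔ _
    rw [← key2]
    exact map_eq_zero_iff _ (hisoapp b' W').1
  refine ⟨⟨b ⁻¹ᵁ W, hD⟩, show m ∈ j ⁻¹ᵁ (b ⁻¹ᵁ W) from hjW.ge hm, List.ofFn fun i => e (F i), ⟨?_, ?_⟩, ?_⟩
  · rw [congr_ringEquiv e, List.map_ofFn] at hF
    exact hF
  · rw [smul_eq_mul, Ideal.mul_top, ofList_ofFn]
    intro htop
    haveI : Nonempty (j ⁻¹ᵁ (b ⁻¹ᵁ W)).toScheme := ⟨⟨m, hjW.ge hm⟩⟩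
    haveI := Scheme.component_nontrivial M' (j ⁻¹ᵁ (b ⁻¹ᵁ W))
    refine one_ne_zero (α := Γ(M', j ⁻¹ᵁ (b ⁻¹ᵁ W))) ?_
    have h1 : (1 : Γ(M, b ⁻¹ᵁ W)) ∈ RingHom.ker (j.app (b ⁻¹ᵁ W)).hom :=
      (Ideal.span_le (I := RingHom.ker (j.app (b ⁻¹ᵁ W)).hom)).2 (by
        rintro _ ⟨i, rfl⟩
        exact (hk _).2 (Ideal.subset_span ⟨i, rfl⟩)) (htop ▸ Submodule.mem_top)
    simpa using h1
  · rw [ofList_ofFn]
    ext x
    obtain ⟨y, rfl⟩ := e.surjective x
    rw [RingHom.mem_ker]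
    refine Iff.trans (hk y) ?_
    have : Ideal.span (Set.range fun i => e (F i)) = (Ideal.span (Set.range F)).map e := by
      rw [Ideal.map_span, ← Set.range_comp]
      rfl
    rw [this, Ideal.mem_map_of_equiv]
    exact ⟨fun h => ⟨y, h, rfl⟩, fun ⟨w, hw, hwy⟩ => e.injective hwy ▸ hw⟩

/-- On the chart of one of the remaining generators the sub-scheme is cut out by a regular prefix. -/
theorem chart_main {b : M ⟶ P} {𝓘 : P.IdealSheafData} (hb : BlowUp.IsBlowUp b 𝓘)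
    {b' : M' ⟶ P'} {𝓘' : P'.IdealSheafData} (hb' : BlowUp.IsBlowUp b' 𝓘') (g : P' ⟶ P) (j : M' ⟶ M)
    [IsClosedImmersion j]
    (hj : j ≫ b = b' ≫ g) (W : P.affineOpens) (W' : P'.affineOpens) (hpre : g ⁻¹ᵁ W.1 = W'.1)
    {c n : ℕ} (F : Fin c → Γ(P, W.1)) (G : Fin (n + 1) → Γ(P, W.1))
    (hsurj : Function.Surjective (g.appLE W.1 W'.1 hpre.ge).hom)
    (hker : RingHom.ker (g.appLE W.1 W'.1 hpre.ge).hom = Ideal.span (Set.range F))
    (hI : 𝓘.ideal W = Ideal.span (Set.range (Fin.append F G)))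
    (hI' : 𝓘'.ideal W' = Ideal.span (Set.range fun l => (g.appLE W.1 W'.1 hpre.ge).hom (G l)))
    (hgood : ∀ l, Good (G l) F (G ∘ l.succAbove))
    (hgood' : ∀ l, Good ((g.appLE W.1 W'.1 hpre.ge).hom (G l)) (Fin.elim0 : Fin 0 → Γ(P', W'.1))
      ((g.appLE W.1 W'.1 hpre.ge).hom ∘ (G ∘ l.succAbove)))
    (m : M') (hm : b' m ∈ W'.1) :
    ∃ D : M.affineOpens, j m ∈ D.1 ∧ ∃ rs : List Γ(M, D.1),
      RingTheory.Sequence.IsRegular Γ(M, D.1) rs ∧ RingHom.ker (j.app D.1).hom = Ideal.ofList rs := by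
  classical
  let R := Γ(P, W.1)
  let R' := Γ(P', W'.1)
  let gR : R →+* R' := (g.appLE W.1 W'.1 hpre.ge).hom
  let G' : Fin (n + 1) → R' := fun l => gR (G l)
  let A : Fin (c + (n + 1)) → R := Fin.append F G
  have hgF : ∀ i, gR (F i) = 0 := fun i => RingHom.mem_ker.1 (hker.ge (Ideal.subset_span ⟨i, rfl⟩))
  -- a chart of `M'` through `m`
  have hP' : BlowUp.IsBlowUp (pullback.fst W'.2.fromSpec b')
      (BlowUpLib.specIdeal (A := R') (Ideal.span (Set.range G'))) :=
    hI' ▸ BlowUpLib.comap_fromSpec 𝓘' W' ▸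
      BlowUpLib.isBlowUp_of_isPullback (IsPullback.of_hasPullback W'.2.fromSpec b').flip hb'
  obtain ⟨ch', hch', hcov', -⟩ := BlowProjLib.exists_charts G' hP'
  obtain ⟨z₀, hz₀⟩ : b' m ∈ Set.range W'.2.fromSpec := W'.2.range_fromSpec.symm ▸ hm
  obtain ⟨y₀, -, hy₀⟩ := Scheme.Pullback.exists_preimage_pullback (f := W'.2.fromSpec) (g := b') z₀ m hz₀
  obtain ⟨l, q₀, hq₀⟩ := hcov' y₀
  haveI := (hch' l).1
  let J' : Ideal R' := Ideal.span (Set.range G')
  let C' := BlowUp.affineAlgebra R' J' (G' l)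
  let cM' : Spec (CommRingCat.of C') ⟶ M' := ch' l ≫ pullback.snd W'.2.fromSpec b'
  haveI : IsOpenImmersion cM' := inferInstance
  have hcM' : cM' ≫ b' = Spec.map (CommRingCat.ofHom (algebraMap R' C')) ≫ W'.2.fromSpec := by
    show (ch' l ≫ _) ≫ b' = _
    rw [Category.assoc, ← pullback.condition, ← Category.assoc]
    exact congrArg (· ≫ W'.2.fromSpec) (hch' l).2
  have hmq : cM' q₀ = m := by
    show (ch' l ≫ pullback.snd W'.2.fromSpec b') q₀ = m
    rw [Scheme.Hom.comp_apply, hq₀, hy₀]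
  -- the chart of `M` with the same generator
  have hP : BlowUp.IsBlowUp (pullback.fst W.2.fromSpec b)
      (BlowUpLib.specIdeal (A := R) (Ideal.span (Set.range A))) :=
    hI ▸ BlowUpLib.comap_fromSpec 𝓘 W ▸
      BlowUpLib.isBlowUp_of_isPullback (IsPullback.of_hasPullback W.2.fromSpec b).flip hb
  obtain ⟨ch, hch, -, -⟩ := BlowProjLib.exists_charts A hP
  have hAl : A (Fin.natAdd c l) = G l := Fin.append_right _ _ _
  let J : Ideal R := Ideal.span (Set.range A)
  obtain ⟨c₀, hc₀i, hc₀⟩ : ∃ c₀ : Spec (CommRingCat.of (BlowUp.affineAlgebra R J (G l))) ⟶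
      pullback W.2.fromSpec b, IsOpenImmersion c₀ ∧ c₀ ≫ pullback.fst W.2.fromSpec b =
        Spec.map (CommRingCat.ofHom (algebraMap R (BlowUp.affineAlgebra R J (G l)))) := by
    have h0 : ∃ c₀ : Spec (CommRingCat.of (BlowUp.affineAlgebra R J (A (Fin.natAdd c l)))) ⟶
        pullback W.2.fromSpec b, IsOpenImmersion c₀ ∧ c₀ ≫ pullback.fst W.2.fromSpec b =
          Spec.map (CommRingCat.ofHom (algebraMap R (BlowUp.affineAlgebra R J (A (Fin.natAdd c l))))) :=
      ⟨ch _, hch _⟩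
    rwa [hAl] at h0
  haveI := hc₀i
  let C := BlowUp.affineAlgebra R J (G l)
  let cM : Spec (CommRingCat.of C) ⟶ M := c₀ ≫ pullback.snd W.2.fromSpec b
  haveI : IsOpenImmersion cM := inferInstance
  have hcM : cM ≫ b = Spec.map (CommRingCat.ofHom (algebraMap R C)) ≫ W.2.fromSpec := by
    show (c₀ ≫ _) ≫ b = _
    rw [Category.assoc, ← pullback.condition, ← Category.assoc]
    exact congrArg (· ≫ W.2.fromSpec) hc₀
  -- the map of charts
  have hGlJ : G l ∈ J := Ideal.subset_span ⟨_, hAl⟩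
  have hG'lJ : G' l ∈ J' := Ideal.subset_span ⟨l, rfl⟩
  have hmapJ : J.map gR = J' := by
    rw [Ideal.map_span, ← Set.range_comp]
    refine le_antisymm (Ideal.span_le.2 ?_) (Ideal.span_le.2 ?_)
    · rintro _ ⟨k, rfl⟩
      rw [Function.comp_apply]
      induction k using Fin.addCases with
      | left i => rw [show A (Fin.castAdd _ i) = F i from Fin.append_left _ _ _, hgF]; exact Ideal.zero_mem _
      | right i => rw [show A (Fin.natAdd c i) = G i from Fin.append_right _ _ _]; exact Ideal.subset_span ⟨i, rfl⟩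
    · rintro _ ⟨i, rfl⟩
      exact Ideal.subset_span ⟨Fin.natAdd c i, by simp [A, G']⟩
  have hch'' := BlowUpLib.isChart_affineAlgebra hG'lJ
  obtain ⟨ψ, hψ, -⟩ := (BlowUpLib.isChart_affineAlgebra hGlJ).lift C' ((algebraMap R' C').comp gR)
    (BlowProjLib.nzd_affineAlgebra J' (G' l)) (by rw [← Ideal.map_map, hmapJ]; exact hch''.span)
  have hψ' : ∀ r, ψ (algebraMap R C r) = algebraMap R' C' (gR r) := RingHom.congr_fun hψ
  have hcomm : (Spec.map (CommRingCat.ofHom ψ) ≫ cM) ≫ b = (cM' ≫ j) ≫ b := by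
    rw [Category.assoc (Spec.map (CommRingCat.ofHom ψ)) cM, hcM, Category.assoc cM', hj, ← Category.assoc cM', hcM', Category.assoc,
      ← IsAffineOpen.SpecMap_appLE_fromSpec g W.2 W'.2 hpre.ge, ← Category.assoc, ← Category.assoc,
      ← Spec.map_comp, ← Spec.map_comp, ← CommRingCat.ofHom_comp, hψ]
    rfl
  have hcart : BlowUp.IsEffCartierIdeal (𝓘.comap ((Spec.map (CommRingCat.ofHom ψ) ≫ cM) ≫ b)) := by
    rw [Category.assoc, hcM, ← Category.assoc, ← Spec.map_comp, ← CommRingCat.ofHom_comp, hψ,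
      Scheme.IdealSheafData.comap_comp, BlowUpLib.comap_fromSpec, BlowUpLib.comap_specIdeal, hI, ← Ideal.map_map,
      show (Ideal.span (Set.range (Fin.append F G))).map gR = J' from hmapJ, hch''.span]
    exact BlowUpLib.isEffCartier_specIdeal hch''.nzd
  have hfac : Spec.map (CommRingCat.ofHom ψ) ≫ cM = cM' ≫ j := by
    obtain ⟨w, -, hu⟩ := hb.2 _ _ hcart
    exact (hu _ rfl).trans (hu _ hcomm.symm).symm
  -- the preimage of the chart
  have hpre2 : j ⁻¹ᵁ cM.opensRange = cM'.opensRange := by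
    refine le_antisymm ?_ fun y hy => ?_
    swap
    · obtain ⟨w, rfl⟩ := hy
      exact ⟨Spec.map (CommRingCat.ofHom ψ) w, congr(($hfac).base w)⟩
    let T : M'.affineOpens := ⟨j ⁻¹ᵁ cM.opensRange, (isAffineOpen_opensRange cM).preimage j⟩
    let Q := Γ(M', T.1)
    have hrT : Set.range (T.2.fromSpec ≫ j) ⊆ Set.range cM := by
      rintro _ ⟨w, rfl⟩
      have : T.2.fromSpec w ∈ T.1 := T.2.range_fromSpec.le ⟨w, rfl⟩
      exact this
    obtain ⟨ψQ, hψQ⟩ : ∃ ψQ : C →+* Q, Spec.map (CommRingCat.ofHom ψQ) ≫ cM = T.2.fromSpec ≫ j :=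
      ⟨(Spec.preimage (IsOpenImmersion.lift cM _ hrT)).hom, by
        rw [CommRingCat.ofHom_hom, Spec.map_preimage, IsOpenImmersion.lift_fac]⟩
    have e2 : (T.2.fromSpec ≫ b') ≫ g =
        Spec.map (CommRingCat.ofHom (ψQ.comp (algebraMap R C))) ≫ W.2.fromSpec := by
      rw [Category.assoc, ← hj, ← Category.assoc, ← hψQ, Category.assoc, hcM, ← Category.assoc,
        ← Spec.map_comp, ← CommRingCat.ofHom_comp]
    have hrW' : Set.range (T.2.fromSpec ≫ b') ⊆ Set.range W'.2.fromSpec := by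
      rintro _ ⟨w, rfl⟩
      rw [W'.2.range_fromSpec, ← hpre]
      show ((T.2.fromSpec ≫ b') ≫ g) w ∈ (W.1 : Set P)
      rw [e2, ← W.2.range_fromSpec]
      exact ⟨_, rfl⟩
    obtain ⟨δ, hδ⟩ : ∃ δ : R' →+* Q, Spec.map (CommRingCat.ofHom δ) ≫ W'.2.fromSpec = T.2.fromSpec ≫ b' :=
      ⟨(Spec.preimage (IsOpenImmersion.lift W'.2.fromSpec _ hrW')).hom, by
        rw [CommRingCat.ofHom_hom, Spec.map_preimage, IsOpenImmersion.lift_fac]⟩
    have hδg : δ.comp gR = ψQ.comp (algebraMap R C) := by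
      have h1 : Spec.map (CommRingCat.ofHom (δ.comp gR)) ≫ W.2.fromSpec =
          Spec.map (CommRingCat.ofHom (ψQ.comp (algebraMap R C))) ≫ W.2.fromSpec := by
        rw [← e2, ← hδ, Category.assoc, ← IsAffineOpen.SpecMap_appLE_fromSpec g W.2 W'.2 hpre.ge,
          CommRingCat.ofHom_comp, Spec.map_comp, Category.assoc]
        rfl
      rw [cancel_mono] at h1
      exact congrArg CommRingCat.Hom.hom (Spec.map_injective h1)
    have hspanQ : J'.map δ = Ideal.span {δ (G' l)} := by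
      rw [← hmapJ, Ideal.map_map, hδg, ← Ideal.map_map,
        (BlowUpLib.isChart_affineAlgebra hGlJ).span, Ideal.map_span, Set.image_singleton]
      congr 2
      exact (RingHom.congr_fun hδg (G l)).symm
    have hcT : BlowUp.IsEffCartierIdeal ((𝓘'.comap b').comap T.2.fromSpec) :=
      BlowUpLib.isEffCartier_comap_of_flat _ hb'.1
    have hspec : (𝓘'.comap b').comap T.2.fromSpec = BlowUpLib.specIdeal (Ideal.span {δ (G' l)}) := by
      rw [← Scheme.IdealSheafData.comap_comp, ← hδ, Scheme.IdealSheafData.comap_comp, BlowUpLib.comap_fromSpec,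
        BlowUpLib.comap_specIdeal, hI', ← hspanQ]
    have hnzQ : δ (G' l) ∈ nonZeroDivisors Q := by
      rw [hspec] at hcT
      have h1 := ModPairLib.nzd_of_ideal_eq hcT (V := ⟨⊤, isAffineOpen_top _⟩)
        (a := (Scheme.ΓSpecIso Q).inv.hom (δ (G' l))) (by
          rw [BlowUpLib.specIdeal_top, Ideal.map_span, Set.image_singleton]; rfl)
      refine mem_nonZeroDivisors_iff_right.mpr fun x hx =>
        (ConcreteCategory.bijective_of_isIso (Scheme.ΓSpecIso Q).inv).1 ?_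
      rw [map_zero]
      exact mem_nonZeroDivisors_iff_right.mp h1 _ (by rw [← map_mul, hx, map_zero])
    obtain ⟨χ, hχ, -⟩ := hch''.lift Q δ hnzQ hspanQ
    have hq : Spec.map (CommRingCat.ofHom χ) ≫ cM' = T.2.fromSpec := by
      have hc : BlowUp.IsEffCartierIdeal (𝓘'.comap (T.2.fromSpec ≫ b')) := by
        rw [Scheme.IdealSheafData.comap_comp]; exact hcT
      obtain ⟨w, -, hu⟩ := hb'.2 _ _ hc
      refine (hu _ ?_).trans (hu _ rfl).symm
      dsimp only
      rw [Category.assoc, hcM', ← Category.assoc, ← Spec.map_comp, ← CommRingCat.ofHom_comp, hχ, hδ]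
    intro y hy
    obtain ⟨w, rfl⟩ : y ∈ Set.range T.2.fromSpec := T.2.range_fromSpec.symm ▸ hy
    exact ⟨Spec.map (CommRingCat.ofHom χ) w, congr(($hq).base w)⟩
  -- the algebra
  let Vf : Fin (c + n) → C := Fin.append (fun i : Fin c => (⟨IsLocalization.mk' (Localization.Away (G l)) (F i)
      ⟨G l, Submonoid.mem_powers _⟩, Algebra.subset_adjoin ⟨F i, Ideal.subset_span
        ⟨Fin.castAdd _ i, Fin.append_left _ _ _⟩, rfl⟩⟩ : C))
    (fun k : Fin n => (⟨IsLocalization.mk' (Localization.Away (G l)) (G (l.succAbove k))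
      ⟨G l, Submonoid.mem_powers _⟩, Algebra.subset_adjoin ⟨G (l.succAbove k), Ideal.subset_span
        ⟨Fin.natAdd c (l.succAbove k), Fin.append_right _ _ _⟩, rfl⟩⟩ : C))
  have hVf : ∀ k, Vf k * algebraMap R C (G l) = algebraMap R C (Fin.append F (G ∘ l.succAbove) k) := by
    intro k
    induction k using Fin.addCases with
    | left i =>
      simp only [Vf, Fin.append_left]
      exact Subtype.ext (IsLocalization.mk'_spec _ _ ⟨G l, Submonoid.mem_powers _⟩)
    | right i =>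
      simp only [Vf, Fin.append_right]
      exact Subtype.ext (IsLocalization.mk'_spec _ _ ⟨G l, Submonoid.mem_powers _⟩)
  have hJeq : J = Ideal.span (Set.range (Fin.cons (G l) (Fin.append F (G ∘ l.succAbove)) : Fin (c + n + 1) → R)) := by
    refine le_antisymm (Ideal.span_le.2 ?_) (Ideal.span_le.2 ?_)
    · rintro _ ⟨k, rfl⟩
      induction k using Fin.addCases with
      | left i =>
        exact Ideal.subset_span ⟨(Fin.castAdd n i).succ, by simp [A]⟩
      | right i =>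
        rw [show A (Fin.natAdd c i) = G i from Fin.append_right _ _ _]
        rcases Fin.eq_self_or_eq_succAbove l i with rfl | ⟨k, rfl⟩
        · exact Ideal.subset_span ⟨0, Fin.cons_zero _ _⟩
        · exact Ideal.subset_span ⟨(Fin.natAdd c k).succ, by simp⟩
    · rintro _ ⟨k, rfl⟩
      induction k using Fin.cases with
      | zero => rw [Fin.cons_zero]; exact hGlJ
      | succ k =>
        rw [Fin.cons_succ]
        induction k using Fin.addCases with
        | left i => rw [Fin.append_left]; exact Ideal.subset_span ⟨Fin.castAdd _ i, by simp [A]⟩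
        | right i => rw [Fin.append_right]; exact Ideal.subset_span ⟨Fin.natAdd c (l.succAbove i), by simp [A]⟩
  have hJ'eq : J' = Ideal.span (Set.range (Fin.cons (gR (G l))
      (Fin.append (Fin.elim0 : Fin 0 → R') (gR ∘ (G ∘ l.succAbove))) : Fin (0 + n + 1) → R')) := by
    refine le_antisymm (Ideal.span_le.2 ?_) (Ideal.span_le.2 ?_)
    · rintro _ ⟨i, rfl⟩
      rcases Fin.eq_self_or_eq_succAbove l i with rfl | ⟨k, rfl⟩
      · exact Ideal.subset_span ⟨0, Fin.cons_zero _ _⟩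
      · exact Ideal.subset_span ⟨(Fin.natAdd 0 k).succ, by rw [Fin.cons_succ, Fin.append_right]; rfl⟩
    · rintro _ ⟨k, rfl⟩
      induction k using Fin.cases with
      | zero => rw [Fin.cons_zero]; exact hG'lJ
      | succ k =>
        rw [Fin.cons_succ]
        induction k using Fin.addCases with
        | left i => exact i.elim0
        | right i => rw [Fin.append_right]; exact Ideal.subset_span ⟨l.succAbove i, rfl⟩
  obtain ⟨hψs, hψk⟩ := ker_chartMap (hgood l) J hJeq Vf hVf gR hsurj hker (hgood' l) J' hJ'eq ψ hψ'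
  have hreg := weaklyRegular_prefix (hgood l) J hJeq Vf hVf
  obtain ⟨-, ε, hε⟩ := BlowProjLib.closedImmersion_and_ker j cM cM' ψ hψs hfac hpre2
  refine ⟨⟨cM.opensRange, isAffineOpen_opensRange cM⟩,
    show m ∈ j ⁻¹ᵁ cM.opensRange from hpre2.ge ⟨q₀, hmq⟩,
    List.ofFn fun i : Fin c => ε (Vf (Fin.castAdd n i)), ⟨?_, ?_⟩, ?_⟩
  · rw [congr_ringEquiv ε, List.map_ofFn] at hreg
    exact hreg
  · rw [smul_eq_mul, Ideal.mul_top, ofList_ofFn]
    intro htop
    haveI : Nontrivial C' := (PrimeSpectrum.nontrivial (q₀ : PrimeSpectrum C'))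
    have h1 : RingHom.ker ψ = ⊤ := by
      have e : (RingHom.ker ψ).map ε = ⊤ := by
        rw [hψk, Ideal.map_span, ← Set.range_comp]
        exact htop.symm
      have := congrArg (Ideal.comap ε) e
      rwa [Ideal.comap_map_of_bijective _ ε.bijective, Ideal.comap_top] at this
    exact RingHom.ker_ne_top ψ h1
  · show RingHom.ker (j.app cM.opensRange).hom = _
    rw [ofList_ofFn, hε, hψk, Ideal.map_span, ← Set.range_comp]
    rfl

end DefoRegLib

end
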